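import Mathlib
import Cfsg.Agent.Lib.AltAut.Basic

/-!
Permutation groups containing three-cycles: the sets on which they contain every three-cycle.
-/

set_option autoImplicit false

namespace Cfsg.Agent.Lib.PermThree

open Equiv Equiv.Perm
open Cfsg.Agent.Lib.AltAut

variable {α : Type*} [Fintype α] [DecidableEq α] {H : Subgroup (Perm α)} {Ω : Finset α}

/-- `H` contains all three-cycles inside `Ω`. -/
def Full (H : Subgroup (Perm α)) (Ω : Finset α) : Prop :=
  ∀ c : Perm α, c.IsThreeCycle → c.support ⊆ Ω → c ∈ H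

/-- The alternating group on `Ω`, inside the symmetric group on `α`. -/
def altOn (Ω : Finset α) : Subgroup (Perm α) :=
  Subgroup.closure {c | c.IsThreeCycle ∧ c.support ⊆ Ω}

theorem altOn_le_iff : altOn Ω ≤ H ↔ Full H Ω := by
  rw [altOn, Subgroup.closure_le]
  exact ⟨fun h c hc hs => h ⟨hc, hs⟩, fun h c hc => h c hc.1 hc.2⟩

theorem mem_altOn {c : Perm α} (hc : c.IsThreeCycle) (hs : c.support ⊆ Ω) : c ∈ altOn Ω :=
  Subgroup.subset_closure ⟨hc, hs⟩

theorem apply_of_mem_altOn {g : Perm α} (hg : g ∈ altOn Ω) {x : α} (hx : x ∉ Ω) : g x = x := by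
  have hle : altOn Ω ≤ MulAction.stabilizer (Perm α) x :=
    (Subgroup.closure_le _).2 fun c hc => MulAction.mem_stabilizer_iff.2
      (notMem_support.1 fun h => hx (hc.2 h))
  exact hle hg

theorem altOn_eq_map (Ω : Finset α) :
    altOn Ω = (alternatingGroup {x // x ∈ Ω}).map (ofSubtype : Perm {x // x ∈ Ω} →* Perm α) := by
  rw [← closure_three_cycles_eq_alternating, MonoidHom.map_closure, altOn]
  congr 1
  ext c
  constructor
  · rintro ⟨hc, hs⟩
    have hinv : ∀ x, c x ∈ Ω ↔ x ∈ Ω := by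
      intro x
      by_cases hx : x ∈ c.support
      · exact ⟨fun _ => hs hx, fun _ => hs (apply_mem_support.2 hx)⟩
      · rw [notMem_support.1 hx]
    refine ⟨c.subtypePerm hinv, ?_, ofSubtype_subtypePerm hinv fun x hx => hs (mem_support.2 hx)⟩
    show (c.subtypePerm hinv).IsThreeCycle
    rw [IsThreeCycle, ← cycleType_ofSubtype,
      ofSubtype_subtypePerm hinv fun x hx => hs (mem_support.2 hx)]
    exact hc
  · rintro ⟨d, hd, rfl⟩
    refine ⟨?_, ?_⟩
    · rw [IsThreeCycle, cycleType_ofSubtype]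
      exact hd
    · intro x hx
      rw [support_ofSubtype, Finset.mem_map] at hx
      obtain ⟨y, -, rfl⟩ := hx
      exact y.2

/-- `altOn Ω` is an alternating group of degree `|Ω|`. -/
noncomputable def altOnEquiv (Ω : Finset α) : ↥(altOn Ω) ≃* ↥(alternatingGroup {x // x ∈ Ω}) :=
  (MulEquiv.subgroupCongr (altOn_eq_map Ω)).trans
    ((alternatingGroup {x // x ∈ Ω}).equivMapOfInjective _ ofSubtype_injective).symm

theorem nonempty_altOn_equiv (Ω : Finset α) {m : ℕ} (hm : Ω.card = m) :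
    Nonempty (↥(altOn Ω) ≃* ↥(alternatingGroup (Fin m))) :=
  ⟨(altOnEquiv Ω).trans (Equiv.altCongrHom (Fintype.equivFinOfCardEq (by rw [Fintype.card_coe, hm])))⟩

theorem isSimpleGroup_altOn (h5 : 5 ≤ Ω.card) : IsSimpleGroup ↥(altOn Ω) := by
  have h : 5 ≤ Nat.card {x // x ∈ Ω} := by rw [Nat.card_eq_fintype_card, Fintype.card_coe]; exact h5
  haveI := alternatingGroup.isSimpleGroup h
  haveI : Nontrivial ↥(altOn Ω) := (altOnEquiv Ω).toEquiv.nontrivial
  exact IsSimpleGroup.isSimpleGroup_of_surjective (altOnEquiv Ω).symm.toMonoidHom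
    (altOnEquiv Ω).symm.surjective

theorem cyc_support_subset {a b c : α} (hab : a ≠ b) (hac : a ≠ c) (hbc : b ≠ c) (ha : a ∈ Ω)
    (hb : b ∈ Ω) (hc : c ∈ Ω) : (cyc a b c).support ⊆ Ω := by
  intro z hz
  rw [mem_support, cyc_apply hab hac hbc] at hz
  grind

theorem Full.cyc_mem' (h : Full H Ω) {a b c : α} (hab : a ≠ b) (hac : a ≠ c) (hbc : b ≠ c)
    (ha : a ∈ Ω) (hb : b ∈ Ω) (hc : c ∈ Ω) : cyc a b c ∈ H :=
  h _ (isThreeCycle_cyc hab hac hbc) (cyc_support_subset hab hac hbc ha hb hc)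

theorem cyc_inv_rot {a b c : α} (hab : a ≠ b) (hac : a ≠ c) (hbc : b ≠ c) :
    (cyc a b c)⁻¹ = cyc b a c := by
  refine inv_eq_of_mul_eq_one_left ?_
  ext z
  rw [Perm.mul_apply, cyc_apply hab hac hbc, cyc_apply hab.symm hbc hac, Perm.one_apply]
  grind

theorem Full.conj_mem (h : Full H Ω) {a b c : α} (hab : a ≠ b) (hac : a ≠ c) (hbc : b ≠ c)
    (ha : a ∈ Ω) (hb : b ∈ Ω) (hc : c ∈ Ω) {u v w : α} (hm : cyc u v w ∈ H) :
    cyc (cyc a b c u) (cyc a b c v) (cyc a b c w) ∈ H := by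
  rw [← cyc_conj]
  exact H.mul_mem (H.mul_mem (h.cyc_mem' hab hac hbc ha hb hc) hm)
    (H.inv_mem (h.cyc_mem' hab hac hbc ha hb hc))

theorem Full.insert_of_cyc (h : Full H Ω) {a b x : α} (ha : a ∈ Ω) (hb : b ∈ Ω) (hab : a ≠ b)
    (hx : x ∉ Ω) (hc : cyc a b x ∈ H) : Full H (insert x Ω) := by
  have hsym : ∀ u v, u ∈ Ω → v ∈ Ω → u ≠ v → cyc u v x ∈ H → cyc v u x ∈ H := by
    intro u v hu hv huv hm
    rw [← cyc_inv_rot huv (by grind) (by grind)]
    exact H.inv_mem hm
  have hstar : ∀ u v w, u ∈ Ω → v ∈ Ω → w ∈ Ω → u ≠ v → u ≠ w → cyc u v x ∈ H → cyc u w x ∈ H := by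
    intro u v w hu hv hw huv huw hm
    rcases eq_or_ne v w with rfl | hvw
    · exact hm
    have hm' := h.conj_mem huv huw hvw hu hv hw (h.conj_mem huv huw hvw hu hv hw hm)
    simp only [cyc_apply huv huw hvw] at hm'
    refine hsym w u hw hu huw.symm ?_
    grind
  have hall : ∀ u v, u ∈ Ω → v ∈ Ω → u ≠ v → cyc u v x ∈ H := by
    intro u v hu hv huv
    rcases eq_or_ne a u with rfl | hau
    · exact hstar a b v ha hb hv hab huv hc
    · exact hstar u a v hu ha hv hau.symm huv (hsym a u ha hu hau (hstar a b u ha hb hu hab hau hc))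
  intro c hc3 hs
  by_cases hcx : c x = x
  · refine h c hc3 fun z hz => ?_
    rcases Finset.mem_insert.1 (hs hz) with rfl | hz'
    · exact absurd hcx (mem_support.1 hz)
    · exact hz'
  · obtain ⟨h1, h2, h3⟩ := eq_cyc hc3 hcx
    have hx1 : c x ∈ c.support := apply_mem_support.2 (mem_support.2 hcx)
    have hm1 : c x ∈ Ω := (Finset.mem_insert.1 (hs hx1)).resolve_left hcx
    have hm2 : c (c x) ∈ Ω :=
      (Finset.mem_insert.1 (hs (apply_mem_support.2 hx1))).resolve_left h1.symm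
    rw [h3, cyc_rot (Ne.symm hcx) h1 h2]
    exact hall _ _ hm1 hm2 h2

theorem full_support {c : Perm α} (hc : c.IsThreeCycle) (hcH : c ∈ H) : Full H c.support := by
  intro d hd hs
  obtain ⟨x, hx⟩ : c.support.Nonempty := by
    rw [← Finset.card_pos, hc.card_support]; norm_num
  obtain ⟨hc1, hc2, hc3⟩ := eq_cyc hc (mem_support.1 hx)
  have hsup : d.support = c.support :=
    Finset.eq_of_subset_of_card_le hs (by rw [hc.card_support, hd.card_support])
  obtain ⟨hd1, hd2, hd3⟩ := eq_cyc hd (mem_support.1 (hsup ▸ hx))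
  have key : ∀ z ∈ c.support, z = x ∨ z = c x ∨ z = c (c x) := by
    intro z hz
    by_contra hne
    push Not at hne
    rw [hc3, mem_support, cyc_apply (Ne.symm (mem_support.1 hx)) hc1 hc2] at hz
    grind
  have hdx : d x ∈ c.support := hsup ▸ apply_mem_support.2 (hsup ▸ hx)
  have hddx : d (d x) ∈ c.support := hsup ▸ apply_mem_support.2 (hsup ▸ hdx)
  have hdne : d x ≠ x := mem_support.1 (hsup ▸ hx)
  rcases key _ hdx with h | h | h
  · exact absurd h hdne
  · have h' : d (d x) = c (c x) := by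
      rcases key _ hddx with e | e | e
      · exact absurd e.symm hd1
      · exact absurd (e.trans h.symm) hd2.symm
      · exact e
    rw [hd3, h', h, ← hc3]
    exact hcH
  · have h' : d (d x) = c x := by
      rcases key _ hddx with e | e | e
      · exact absurd e.symm hd1
      · exact e
      · exact absurd (e.trans h.symm) hd2.symm
    rw [hd3, h', h, cyc_rot hc1 (Ne.symm (mem_support.1 hx)) hc2.symm,
      ← cyc_inv_rot hc2 (mem_support.1 hx) hc1.symm]
    have hr : cyc (c x) (c (c x)) x = c := by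
      conv_rhs => rw [hc3, cyc_rot (Ne.symm (mem_support.1 hx)) hc1 hc2]
    rw [hr]
    exact H.inv_mem hcH

/-- A three-cycle of `H` meeting `Ω` enlarges `Ω`. -/
theorem Full.union (h : Full H Ω) (h2 : 3 ≤ Ω.card) {c : Perm α} (hc : c.IsThreeCycle)
    (hcH : c ∈ H) (hmeet : ∃ a ∈ c.support, a ∈ Ω) : Full H (Ω ∪ c.support) := by
  obtain ⟨a, hac, ha⟩ := hmeet
  obtain ⟨hap, hpq, hc3⟩ := eq_cyc hc (mem_support.1 hac)
  have hca : a ≠ c a := Ne.symm (mem_support.1 hac)
  set p := c a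
  set q := c p
  have hsup : c.support ⊆ {a, p, q} := by
    intro z hz
    rw [hc3, mem_support, cyc_apply hca hap hpq] at hz
    grind
  suffices hgoal : ∃ Ω', Ω ⊆ Ω' ∧ p ∈ Ω' ∧ q ∈ Ω' ∧ Full H Ω' by
    obtain ⟨Ω', hΩ, hp, hq, hF⟩ := hgoal
    intro d hd hs
    refine hF d hd (hs.trans (Finset.union_subset hΩ (hsup.trans ?_)))
    simp [Finset.insert_subset_iff, hΩ ha, hp, hq]
  have hcm : cyc a p q ∈ H := hc3 ▸ hcH
  have add_q : ∀ Ω', Ω ⊆ Ω' → p ∈ Ω' → Full H Ω' →
      ∃ Ω'', Ω ⊆ Ω'' ∧ p ∈ Ω'' ∧ q ∈ Ω'' ∧ Full H Ω'' := by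
    intro Ω' hΩ hp hF
    by_cases hq : q ∈ Ω'
    · exact ⟨Ω', hΩ, hp, hq, hF⟩
    · exact ⟨insert q Ω', hΩ.trans (Finset.subset_insert _ _), Finset.mem_insert_of_mem hp,
        Finset.mem_insert_self _ _, hF.insert_of_cyc (hΩ ha) hp hca hq hcm⟩
  by_cases hp : p ∈ Ω
  · exact add_q Ω subset_rfl hp h
  by_cases hq : q ∈ Ω
  · refine ⟨insert p Ω, Finset.subset_insert _ _, Finset.mem_insert_self _ _,
      Finset.mem_insert_of_mem hq, h.insert_of_cyc hq ha hap.symm hp ?_⟩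
    rwa [cyc_rot hap.symm hpq.symm hca]
  obtain ⟨b, hb, hba⟩ := Finset.exists_mem_ne (show 1 < Ω.card by omega) a
  refine add_q (insert p Ω) (Finset.subset_insert _ _) (Finset.mem_insert_self _ _)
    (h.insert_of_cyc hb ha hba hp ?_)
  obtain ⟨d, hd, hda, hdb⟩ : ∃ d ∈ Ω, d ≠ a ∧ d ≠ b := by
    by_contra hcon
    push Not at hcon
    have := Finset.card_le_card (show Ω ⊆ {a, b} from fun z hz => by
      have := hcon z hz; simp; tauto)
    have := Finset.card_le_two (a := a) (b := b)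
    omega
  have hm := h.conj_mem hba.symm hda.symm hdb.symm ha hb hd hcm
  have e : cyc a b d p = p ∧ cyc a b d q = q ∧ cyc a b d a = b := by
    simp only [cyc_apply hba.symm hda.symm hdb.symm]; grind
  rw [e.1, e.2.1, e.2.2] at hm
  have := H.mul_mem hcm (H.inv_mem hm)
  have e2 : cyc a p q * (cyc b p q)⁻¹ = cyc b a p := by
    rw [cyc_inv_rot (by grind) (by grind) hpq]
    ext z
    rw [Perm.mul_apply, cyc_apply hca hap hpq, cyc_apply (by grind) hpq (by grind),
      cyc_apply hba (by grind) hca]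
    grind
  rwa [e2] at this

theorem Full.image (h : Full H Ω) {g : Perm α} (hg : g ∈ H) : Full H (Ω.image g) := by
  intro c hc hs
  have hcs : (g⁻¹ * c * g).support ⊆ Ω := by
    intro z hz
    rw [mem_support, Perm.mul_apply, Perm.mul_apply, ne_eq, Perm.inv_eq_iff_eq, eq_comm] at hz
    obtain ⟨w, hw, hwz⟩ := Finset.mem_image.1 (hs (mem_support.2 (Ne.symm hz)))
    rwa [← g.injective hwz]
  have hm : g⁻¹ * c * g ∈ H := h _ (by
    have : g⁻¹ * c * g = g⁻¹ * c * (g⁻¹)⁻¹ := by rw [inv_inv]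
    rw [this, IsThreeCycle, cycleType_conj]; exact hc) hcs
  have := H.mul_mem (H.mul_mem hg hm) (H.inv_mem hg)
  rwa [show g * (g⁻¹ * c * g) * g⁻¹ = c by group] at this

/-- `Ω` is a maximal set on which `H` contains all three-cycles. -/
structure IsBlock (H : Subgroup (Perm α)) (Ω : Finset α) : Prop where
  full : Full H Ω
  three_le : 3 ≤ Ω.card
  closed : ∀ c ∈ H, c.IsThreeCycle → (∃ a ∈ c.support, a ∈ Ω) → c.support ⊆ Ω

theorem exists_isBlock {c : Perm α} (hc : c.IsThreeCycle) (hcH : c ∈ H) :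
    ∃ Ω, c.support ⊆ Ω ∧ IsBlock H Ω := by
  classical
  obtain ⟨Ω, hΩ, hmax⟩ := Finset.exists_max_image
    (Finset.univ.filter fun S : Finset α => c.support ⊆ S ∧ Full H S) Finset.card
    ⟨c.support, by simp [full_support hc hcH]⟩
  simp only [Finset.mem_filter, Finset.mem_univ, true_and] at hΩ hmax
  have h3 : 3 ≤ Ω.card := hc.card_support ▸ Finset.card_le_card hΩ.1
  refine ⟨Ω, hΩ.1, hΩ.2, h3, fun d hd hd3 hmeet => ?_⟩
  have hle := hmax (Ω ∪ d.support) ⟨hΩ.1.trans Finset.subset_union_left,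
    hΩ.2.union h3 hd3 hd hmeet⟩
  intro z hz
  rw [Finset.eq_of_subset_of_card_le Finset.subset_union_left hle]
  exact Finset.mem_union_right _ hz

theorem IsBlock.apply_mem (hΩ : IsBlock H Ω) {c : Perm α} (hc : c ∈ H) (h3 : c.IsThreeCycle)
    {x : α} (hx : x ∈ Ω) : c x ∈ Ω := by
  by_cases hxs : x ∈ c.support
  · exact hΩ.closed c hc h3 ⟨x, hxs, hx⟩ (apply_mem_support.2 hxs)
  · rwa [notMem_support.1 hxs]

end Cfsg.Agent.Lib.PermThree
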