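import Mathlib
import Cfsg.Agent.Lib.PermThree.Basic
import Cfsg.Agent.Lib.Components.GenFitting
import Cfsg.Agent.Lib.Components.Subnormal
import Cfsg.Agent.Lib.Burnside.Paqb

/-!
A permutation group with quasisimple generalized Fitting subgroup and a three-cycle: the generalized
Fitting subgroup is the alternating group on the set moved by the three-cycles.
-/

set_option autoImplicit false

namespace Cfsg.Agent.Lib.PermThree

open Equiv Equiv.Perm Cfsg
open Cfsg.Agent.Lib.AltAut
open scoped Pointwise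

variable {α : Type*} [Fintype α] [DecidableEq α] {H : Subgroup (Perm α)} {Ω : Finset α}

theorem isSolvable_perm_of_card_le {β : Type*} [Fintype β] [DecidableEq β]
    (h : Fintype.card β ≤ 4) : Group.IsSolvable (Perm β) := by
  have hc : Nat.card (Perm β) = (Fintype.card β).factorial := by
    rw [Nat.card_perm, Nat.card_eq_fintype_card]
  obtain ⟨a, b, hab⟩ : ∃ a b, (Fintype.card β).factorial = 2 ^ a * 3 ^ b := by
    interval_cases Fintype.card β
    · exact ⟨0, 0, rfl⟩
    · exact ⟨0, 0, rfl⟩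
    · exact ⟨1, 0, rfl⟩
    · exact ⟨1, 1, rfl⟩
    · exact ⟨3, 1, rfl⟩
  exact Lib.Burnside.isSolvable_of_card_eq_prime_pow_mul Nat.prime_two Nat.prime_three (hc.trans hab)

/-- The subgroup of `H` generated by its three-cycles. -/
def threeGen (H : Subgroup (Perm α)) : Subgroup ↥H :=
  Subgroup.normalClosure {g | (g : Perm α).IsThreeCycle}

theorem threeGen_le_iff {K : Subgroup ↥H} :
    threeGen H ≤ K ↔ ∀ g : ↥H, (g : Perm α).IsThreeCycle → g ∈ K := by
  refine ⟨fun h g hg => h (Subgroup.subset_normalClosure hg), fun h => (Subgroup.closure_le _).2 ?_⟩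
  intro g hg
  obtain ⟨a, ha, hag⟩ := Group.mem_conjugatesOfSet_iff.1 hg
  obtain ⟨b, hb⟩ := isConj_iff.1 hag
  refine h g ?_
  rw [← hb, IsThreeCycle]
  push_cast
  rw [cycleType_conj]
  exact ha

/-- A perfect group of permutations of a finite set that stabilises a set of at most four points
fixes it pointwise. -/
theorem apply_eq_self_of_perfect {E : Subgroup (Perm α)} (hE : ⁅E, E⁆ = E) (Ω : Finset α)
    (h4 : Ω.card ≤ 4) (hinv : ∀ g ∈ E, ∀ x, g x ∈ Ω ↔ x ∈ Ω) :
    ∀ g ∈ E, ∀ x ∈ Ω, g x = x := by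
  haveI hsol := isSolvable_perm_of_card_le (β := {x // x ∈ Ω}) (by rw [Fintype.card_coe]; exact h4)
  let φ : ↥E →* Perm {x // x ∈ Ω} :=
    { toFun := fun g => (g : Perm α).subtypePerm (hinv _ g.2)
      map_one' := by ext x; rfl
      map_mul' := fun g h => by ext x; rfl }
  haveI : Group.IsPerfect ↥E := Subgroup.isPerfect_iff.mpr hE
  haveI : Group.IsSolvable ↥φ.range :=
    Group.isSolvable_of_isSolvable_injective (f := φ.range.subtype) φ.range.subtype_injective
  haveI : Group.IsPerfect ↥φ.range :=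
    Group.IsPerfect.ofSurjective φ.rangeRestrict_surjective
  intro g hg x hx
  by_contra hne
  haveI : Nontrivial ↥φ.range := by
    refine ⟨⟨⟨φ ⟨g, hg⟩, _, rfl⟩, 1, fun e => hne ?_⟩⟩
    exact congrArg Subtype.val (Perm.ext_iff.mp (congrArg Subtype.val e) ⟨x, hx⟩)
  exact Group.IsPerfect.not_isSolvable ↥φ.range inferInstance

/-- A perfect group of permutations centralising a three-cycle fixes the points moved by it. -/
theorem apply_eq_self_of_commute {E : Subgroup (Perm α)} (hE : ⁅E, E⁆ = E) {c : Perm α}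
    (hc : c.IsThreeCycle) (hcom : ∀ g ∈ E, g * c = c * g) :
    ∀ g ∈ E, ∀ x ∈ c.support, g x = x := by
  have hpow : ∀ g ∈ E, ∀ (i : ℕ) (x : α), g ((c ^ i) x) = (c ^ i) (g x) := fun g hg i x =>
    Perm.ext_iff.mp ((show Commute g c from hcom g hg).pow_right i).eq x
  have hmov : ∀ g ∈ E, ∀ x ∈ c.support, g x ∈ c.support := by
    intro g hg x hx
    rw [mem_support] at hx ⊢
    have := hpow g hg 1 x
    rw [pow_one] at this
    exact fun e => hx (g.injective (by rw [this, e]))
  have hswap : ∀ g ∈ E, ∀ h ∈ E, ∀ x ∈ c.support, g (h x) = h (g x) := by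
    intro g hg h hh x hx
    obtain ⟨i, hi⟩ := hc.isCycle.exists_pow_eq (mem_support.1 hx) (mem_support.1 (hmov g hg x hx))
    obtain ⟨j, hj⟩ := hc.isCycle.exists_pow_eq (mem_support.1 hx) (mem_support.1 (hmov h hh x hx))
    rw [← hj, hpow g hg, ← hi, hpow h hh, ← hj, ← Perm.mul_apply, ← Perm.mul_apply,
      ← pow_add, ← pow_add, add_comm]
  intro g hg x hx
  have hle : ⁅E, E⁆ ≤ MulAction.stabilizer (Perm α) x := by
    rw [Subgroup.commutator_le]
    intro a ha b hb
    rw [MulAction.mem_stabilizer_iff, Perm.smul_def, commutatorElement_def]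
    simp only [Perm.mul_apply]
    have h1 := hswap a ha b hb _ (hmov a⁻¹ (E.inv_mem ha) _ (hmov b⁻¹ (E.inv_mem hb) x hx))
    rw [h1]
    simp
  rw [hE] at hle
  exact hle hg

theorem not_altOn_commute (h4 : 4 ≤ Ω.card) :
    ∃ g ∈ altOn Ω, ∃ h ∈ altOn Ω, g * h ≠ h * g := by
  obtain ⟨s, hs, hcard⟩ := Finset.exists_subset_card_eq h4
  obtain ⟨a, b, c, d, hab, hac, had, hbc, hbd, hcd, rfl⟩ := Finset.card_eq_four.1 hcard
  simp only [Finset.insert_subset_iff, Finset.singleton_subset_iff] at hs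
  obtain ⟨ha, hb, hc, hd⟩ := hs
  refine ⟨cyc a b c, mem_altOn (isThreeCycle_cyc hab hac hbc) (cyc_support_subset hab hac hbc ha hb hc),
    cyc a b d, mem_altOn (isThreeCycle_cyc hab had hbd) (cyc_support_subset hab had hbd ha hb hd),
    fun e => hcd ?_⟩
  have h := Perm.ext_iff.mp e a
  simp only [Perm.mul_apply, cyc_apply hab hac hbc, cyc_apply hab had hbd] at h
  grind

/-- **Main structure theorem.** -/
theorem exists_altOn_eq (hF : IsQuasisimple ↥(generalizedFittingSubgroup ↥H)) {c : Perm α}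
    (hc : c.IsThreeCycle) (hcH : c ∈ H) :
    ∃ Ω : Finset α, 5 ≤ Ω.card ∧ IsBlock H Ω ∧
      (generalizedFittingSubgroup ↥H).map H.subtype = altOn Ω ∧
      ∀ d ∈ H, d.IsThreeCycle → d.support ⊆ Ω := by
  classical
  set E0 : Subgroup ↥H := generalizedFittingSubgroup ↥H with hE0
  haveI hn : E0.Normal := Components.generalizedFittingSubgroup_normal
  have hcomp : IsComponent E0 := ⟨hn.isSubnormal, hF⟩
  have hcen : Subgroup.centralizer (E0 : Set ↥H) ≤ E0 :=
    Components.centralizer_generalizedFittingSubgroup_le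
  set E : Subgroup (Perm α) := E0.map H.subtype with hEdef
  have hEH : E ≤ H := Subgroup.map_subtype_le _
  have hEp : ⁅E, E⁆ = E := by
    rw [hEdef, ← Subgroup.map_commutator, Components.quasisimple_commutator_self hF]
  have hmemC : ∀ d : ↥H, (∀ g ∈ E, g * (d : Perm α) = (d : Perm α) * g) → d ∈ E0 := fun d hd =>
    hcen (Subgroup.mem_centralizer_iff.2 fun g hg => Subtype.ext (hd _ ⟨g, hg, rfl⟩))
  -- `E0` lies in the group generated by the three-cycles
  haveI hNn : (threeGen H).Normal := Subgroup.normalClosure_normal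
  have hEN : E0 ≤ threeGen H := by
    refine (Components.isComponent_le_or_commutator_eq_bot hcomp hNn.isSubnormal).resolve_right
      fun hbot => ?_
    have hcom : ∀ g ∈ E, g * c = c * g := by
      rintro _ ⟨g, hg, rfl⟩
      exact congrArg Subtype.val ((Subgroup.commutator_eq_bot_iff_le_centralizer.1 hbot hg)
        ⟨c, hcH⟩ (Subgroup.subset_normalClosure (show _ from hc))).symm
    have hcE : c ∈ E := ⟨⟨c, hcH⟩, hmemC ⟨c, hcH⟩ hcom, rfl⟩
    obtain ⟨x, hx⟩ : c.support.Nonempty := by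
      rw [← Finset.card_pos, hc.card_support]; norm_num
    exact mem_support.1 hx (apply_eq_self_of_commute hEp hc hcom c hcE x hx)
  have hblock : ∀ Ω, IsBlock H Ω → ∀ g : ↥H, g ∈ threeGen H →
      ∀ x, (g : Perm α) x ∈ Ω ↔ x ∈ Ω := by
    intro Ω hΩ
    let K : Subgroup ↥H := (MulAction.stabilizer (Perm α) (Ω : Set α)).comap H.subtype
    have hmem : ∀ g : ↥H, g ∈ K ↔ ∀ x, (g : Perm α) x ∈ Ω ↔ x ∈ Ω := by
      intro g
      show H.subtype g ∈ MulAction.stabilizer (Perm α) (Ω : Set α) ↔ _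
      rw [MulAction.mem_stabilizer_set]
      rfl
    intro g hg
    refine (hmem g).1 ((threeGen_le_iff.2 fun d hd => (hmem d).2 fun x => ⟨fun h => ?_,
      hΩ.apply_mem d.2 hd⟩) hg)
    have h2 := hΩ.apply_mem d.2 hd (hΩ.apply_mem d.2 hd h)
    rwa [← Perm.mul_apply, ← Perm.mul_apply, ← pow_three', ← hd.orderOf, pow_orderOf_eq_one,
      Perm.one_apply] at h2
  -- some block has at least five points
  obtain ⟨Ω, hΩ, h5⟩ : ∃ Ω, IsBlock H Ω ∧ 5 ≤ Ω.card := by
    by_contra! hsmall
    refine Components.isComponent_not_le_centralizer hcomp ?_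
    have hle : threeGen H ≤ Subgroup.centralizer (E0 : Set ↥H) := by
      refine threeGen_le_iff.2 fun d hd => Subgroup.mem_centralizer_iff.2 fun g hg => ?_
      obtain ⟨Ω, hdΩ, hΩ⟩ := exists_isBlock hd d.2
      have hfix := apply_eq_self_of_perfect hEp Ω (by have := hsmall Ω hΩ; omega)
        (by rintro _ ⟨g, hg, rfl⟩ x; exact hblock Ω hΩ g (hEN hg) x)
      refine Subtype.ext (Disjoint.commute (f := (g : Perm α)) fun x => ?_).eq
      by_cases hx : x ∈ (d : Perm α).support
      · exact Or.inl (hfix _ ⟨g, hg, rfl⟩ x (hdΩ hx))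
      · exact Or.inr (notMem_support.1 hx)
    exact hEN.trans hle
  have hMH : altOn Ω ≤ H := altOn_le_iff.2 hΩ.full
  -- `E0` is the alternating group on the block
  set M : Subgroup ↥H := (altOn Ω).subgroupOf H with hMdef
  have hMN : M ≤ threeGen H := by
    have h1 : altOn Ω ≤ (threeGen H).map H.subtype :=
      (Subgroup.closure_le _).2 fun d hd =>
        ⟨⟨d, hΩ.full d hd.1 hd.2⟩, Subgroup.subset_normalClosure (show _ from hd.1), rfl⟩
    intro g hg
    obtain ⟨g', hg', e⟩ := h1 (Subgroup.mem_subgroupOf.1 hg)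
    exact H.subtype_injective e ▸ hg'
  have hMs : M.IsSubnormal := by
    refine Components.subnormal_of_subgroupOf_normal hMN hNn.isSubnormal
      ⟨fun m hm k => Subgroup.mem_subgroupOf.2 ?_⟩
    have hk : ∀ x, ((k : ↥H) : Perm α) x ∈ Ω ↔ x ∈ Ω := hblock Ω hΩ _ k.2
    have hle : altOn Ω ≤ (altOn Ω).comap (MulAut.conj ((k : ↥H) : Perm α)).toMonoidHom := by
      refine (Subgroup.closure_le _).2 fun d hd => mem_altOn ?_ fun x hx => ?_
      · show (((k : ↥H) : Perm α) * d * ((k : ↥H) : Perm α)⁻¹).IsThreeCycle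
        rw [IsThreeCycle, cycleType_conj]
        exact hd.1
      · change x ∈ (((k : ↥H) : Perm α) * d * ((k : ↥H) : Perm α)⁻¹).support at hx
        rw [support_conj, Finset.mem_map] at hx
        obtain ⟨y, hy, rfl⟩ := hx
        exact (hk y).2 (hd.2 hy)
    exact Subgroup.mem_subgroupOf.2 (hle (Subgroup.mem_subgroupOf.1 (Subgroup.mem_subgroupOf.1 hm)))
  have hEM : E0 ≤ M := by
    refine (Components.isComponent_le_or_commutator_eq_bot hcomp hMs).resolve_right fun hbot => ?_
    rw [Subgroup.commutator_comm, Subgroup.commutator_eq_bot_iff_le_centralizer] at hbot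
    obtain ⟨g, hg, h, hh, hne⟩ := not_altOn_commute (Ω := Ω) (by omega)
    refine hne (congrArg Subtype.val ((hbot (show (⟨h, hMH hh⟩ : ↥H) ∈ M from hh))
      ⟨g, hMH hg⟩ (hcen (hbot (show (⟨g, hMH hg⟩ : ↥H) ∈ M from hg)))))
  have hEle : E ≤ altOn Ω := fun x hx => by
    obtain ⟨g, hg, rfl⟩ := hx
    exact Subgroup.mem_subgroupOf.1 (hEM hg)
  have hEeq : E = altOn Ω := by
    haveI := isSimpleGroup_altOn h5
    haveI : (E.subgroupOf (altOn Ω)).Normal := by
      refine ⟨fun m hm k => Subgroup.mem_subgroupOf.2 ?_⟩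
      obtain ⟨g, hg, he⟩ := Subgroup.mem_subgroupOf.1 hm
      refine ⟨⟨k, hMH k.2⟩ * g * ⟨k, hMH k.2⟩⁻¹, hn.conj_mem g hg _, ?_⟩
      show (k : Perm α) * (g : Perm α) * (k : Perm α)⁻¹ = _
      rw [show (g : Perm α) = _ from he]
      rfl
    rcases (inferInstance : (E.subgroupOf (altOn Ω)).Normal).eq_bot_or_eq_top with h | h
    · refine absurd ?_ (Components.quasisimple_ne_bot hF)
      rw [Subgroup.eq_bot_iff_forall]
      intro g hg
      have h1 : (⟨g, hEle ⟨g, hg, rfl⟩⟩ : ↥(altOn Ω)) ∈ E.subgroupOf (altOn Ω) :=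
        Subgroup.mem_subgroupOf.2 ⟨g, hg, rfl⟩
      rw [h, Subgroup.mem_bot] at h1
      exact Subtype.ext (congrArg Subtype.val h1 : (g : Perm α) = 1)
    · exact le_antisymm hEle (Subgroup.subgroupOf_eq_top.1 h)
  refine ⟨Ω, h5, hΩ, hEeq, fun d hdH hd => ?_⟩
  by_cases hmeet : ∃ a ∈ d.support, a ∈ Ω
  · exact hΩ.closed d hdH hd hmeet
  push Not at hmeet
  have hdE : (⟨d, hdH⟩ : ↥H) ∈ E0 := by
    refine hmemC _ fun g hg => (Disjoint.commute (f := g) fun x => ?_).eq
    by_cases hx : x ∈ Ω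
    · exact Or.inr (notMem_support.1 fun h => hmeet x h hx)
    · exact Or.inl (apply_of_mem_altOn (hEeq ▸ hg) hx)
  intro x hx
  by_contra hxΩ
  exact mem_support.1 hx (apply_of_mem_altOn (hEle ⟨_, hdE, rfl⟩) hxΩ)

/-- The generalized Fitting subgroup is an alternating group. -/
theorem exists_equiv_alternating (hF : IsQuasisimple ↥(generalizedFittingSubgroup ↥H)) {c : Perm α}
    (hc : c.IsThreeCycle) (hcH : c ∈ H) :
    ∃ Ω : Finset α, 5 ≤ Ω.card ∧
      Nonempty (↥(generalizedFittingSubgroup ↥H) ≃* ↥(alternatingGroup (Fin Ω.card))) ∧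
      ∀ d ∈ H, d.IsThreeCycle → d.support ⊆ Ω := by
  obtain ⟨Ω, h5, -, heq, hall⟩ := exists_altOn_eq hF hc hcH
  obtain ⟨e⟩ := nonempty_altOn_equiv Ω (m := Ω.card) rfl
  exact ⟨Ω, h5, ⟨((Subgroup.equivMapOfInjective _ _ H.subtype_injective).trans
    (MulEquiv.subgroupCongr heq)).trans e⟩, hall⟩

end Cfsg.Agent.Lib.PermThree
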