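import Mathlib
import Cfsg.Agent.Lib.PermThree.Main

/-!
Permutation groups without three-cycles: four-sets carrying a Klein four-group.
-/

set_option autoImplicit false

namespace Cfsg.Agent.Lib.PermThree

open Equiv Equiv.Perm
open Cfsg.Agent.Lib.AltAut
open scoped commutatorElement

variable {α : Type*} [Fintype α] [DecidableEq α] {H : Subgroup (Perm α)}

/-- A product of two transpositions. -/
def dbl (a b c d : α) : Perm α := swap a b * swap c d

omit [Fintype α] in
theorem dbl_apply {a b c d : α} (hac : a ≠ c) (had : a ≠ d) (hbc : b ≠ c) (hbd : b ≠ d) (z : α) :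
    dbl a b c d z = if z = a then b else if z = b then a else if z = c then d else
      if z = d then c else z := by
  simp only [dbl, Perm.mul_apply, swap_apply_def]
  grind

omit [Fintype α] in
theorem dbl_conj (g : Perm α) (a b c d : α) :
    g * dbl a b c d * g⁻¹ = dbl (g a) (g b) (g c) (g d) := by
  simp only [dbl, swap_apply_apply]
  group

/-- `S` has four points and `H` contains the three products of two transpositions on it. -/
def Quad (H : Subgroup (Perm α)) (S : Finset α) : Prop :=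
  S.card = 4 ∧ ∀ a b c d, a ∈ S → b ∈ S → c ∈ S → d ∈ S →
    a ≠ b → a ≠ c → a ≠ d → b ≠ c → b ≠ d → c ≠ d → dbl a b c d ∈ H

omit [Fintype α] in
theorem Quad.image {S : Finset α} (h : Quad H S) {g : Perm α} (hg : g ∈ H) :
    Quad H (S.image g) := by
  refine ⟨(Finset.card_image_of_injective S g.injective).trans h.1, ?_⟩
  intro a b c d ha hb hc hd hab hac had hbc hbd hcd
  obtain ⟨a, ha', rfl⟩ := Finset.mem_image.1 ha
  obtain ⟨b, hb', rfl⟩ := Finset.mem_image.1 hb
  obtain ⟨c, hc', rfl⟩ := Finset.mem_image.1 hc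
  obtain ⟨d, hd', rfl⟩ := Finset.mem_image.1 hd
  rw [← dbl_conj]
  exact H.mul_mem (H.mul_mem hg (h.2 a b c d ha' hb' hc' hd' (fun e => hab (by rw [e]))
    (fun e => hac (by rw [e])) (fun e => had (by rw [e])) (fun e => hbc (by rw [e]))
    (fun e => hbd (by rw [e])) fun e => hcd (by rw [e]))) (H.inv_mem hg)

omit [Fintype α] in
theorem mem_image_of_invol {g : Perm α} (hg : ∀ z, g (g z) = z) (S : Finset α) (z : α) :
    z ∈ S.image g ↔ g z ∈ S := by
  rw [Finset.mem_image]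
  exact ⟨fun ⟨w, hw, hwz⟩ => by rw [← hwz, hg]; exact hw, fun h => ⟨g z, h, hg z⟩⟩

variable (hno : ∀ c ∈ H, ¬ c.IsThreeCycle)
include hno

theorem Quad.card_inter_ne_one {S R : Finset α} (hS : Quad H S) (hR : Quad H R) :
    (S ∩ R).card ≠ 1 := by
  intro h1
  obtain ⟨x, hx⟩ := Finset.card_eq_one.1 h1
  have hxm : x ∈ S ∧ x ∈ R := Finset.mem_inter.1 (hx ▸ Finset.mem_singleton_self x)
  have hsep : ∀ z, z ∈ S → z ∈ R → z = x := fun z hz hz' =>
    Finset.mem_singleton.1 (hx ▸ Finset.mem_inter.2 ⟨hz, hz'⟩)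
  obtain ⟨y, r, s, hyr, hys, hrs, hS'⟩ :=
    Finset.card_eq_three.1 (by rw [Finset.card_erase_of_mem hxm.1, hS.1] : (S.erase x).card = 3)
  obtain ⟨p, q, u, hpq, hpu, hqu, hR'⟩ :=
    Finset.card_eq_three.1 (by rw [Finset.card_erase_of_mem hxm.2, hR.1] : (R.erase x).card = 3)
  have hy : y ∈ S.erase x := by simp [hS']
  have hr : r ∈ S.erase x := by simp [hS']
  have hs : s ∈ S.erase x := by simp [hS']
  have hp : p ∈ R.erase x := by simp [hR']
  have hq : q ∈ R.erase x := by simp [hR']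
  have hu : u ∈ R.erase x := by simp [hR']
  rw [Finset.mem_erase] at hy hr hs hp hq hu
  have ha := hS.2 x y r s hxm.1 hy.2 hr.2 hs.2 hy.1.symm hr.1.symm hs.1.symm hyr hys hrs
  have hb := hR.2 x p q u hxm.2 hp.2 hq.2 hu.2 hp.1.symm hq.1.symm hu.1.symm hpq hpu hqu
  have hyp : y ≠ p := fun e => hy.1 (hsep y hy.2 (e ▸ hp.2))
  have e : dbl x y r s * dbl x p q u * dbl x y r s * dbl x p q u = cyc x y p := by
    ext z
    simp only [Perm.mul_apply, dbl_apply hr.1.symm hs.1.symm hyr hys,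
      dbl_apply hq.1.symm hu.1.symm hpq hpu, cyc_apply hy.1.symm hp.1.symm hyp]
    have : ∀ w, w ∈ S → w ∈ R → w = x := hsep
    grind
  exact hno _ (H.mul_mem (H.mul_mem (H.mul_mem ha hb) ha) hb)
    (e ▸ isThreeCycle_cyc hy.1.symm hp.1.symm hyp)

theorem Quad.card_inter_ne_three {S R : Finset α} (hS : Quad H S) (hR : Quad H R) :
    (S ∩ R).card ≠ 3 := by
  intro h3
  obtain ⟨x, y, z, hxy, hxz, hyz, he⟩ := Finset.card_eq_three.1 h3
  have hx : x ∈ S ∩ R := by simp [he]
  have hy : y ∈ S ∩ R := by simp [he]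
  have hz : z ∈ S ∩ R := by simp [he]
  rw [Finset.mem_inter] at hx hy hz
  obtain ⟨r, hr⟩ : ∃ r, r ∈ S ∧ r ∉ R := by
    by_contra! hcon
    rw [Finset.inter_eq_left.2 hcon, hS.1] at h3
    omega
  obtain ⟨p, hp⟩ : ∃ p, p ∈ R ∧ p ∉ S := by
    by_contra! hcon
    rw [Finset.inter_eq_right.2 hcon, hR.1] at h3
    omega
  have hxr : x ≠ r := fun e => hr.2 (e ▸ hx.2)
  have hyr : y ≠ r := fun e => hr.2 (e ▸ hy.2)
  have hzr : z ≠ r := fun e => hr.2 (e ▸ hz.2)
  have hxp : x ≠ p := fun e => hp.2 (e ▸ hx.1)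
  have hyp : y ≠ p := fun e => hp.2 (e ▸ hy.1)
  have hzp : z ≠ p := fun e => hp.2 (e ▸ hz.1)
  have hpr : p ≠ r := fun e => hp.2 (e ▸ hr.1)
  have ha := hS.2 x y z r hx.1 hy.1 hz.1 hr.1 hxy hxz hxr hyz hyr hzr
  have hb := hR.2 x y z p hx.2 hy.2 hz.2 hp.1 hxy hxz hxp hyz hyp hzp
  have e : dbl x y z r * dbl x y z p = cyc z p r := by
    ext w
    simp only [Perm.mul_apply, dbl_apply hxz hxr hyz hyr, dbl_apply hxz hxp hyz hyp,
      cyc_apply hzp hzr hpr]
    grind
  exact hno _ (H.mul_mem ha hb) (e ▸ isThreeCycle_cyc hzp hzr hpr)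

/-- A product of two transpositions in `H` splits both or none of its two pairs. -/
theorem Quad.split {R : Finset α} (hR : Quad H R) {a b c d : α} (hac : a ≠ c) (had : a ≠ d)
    (hbc : b ≠ c) (hbd : b ≠ d) (hcd : c ≠ d) (ht : dbl a b c d ∈ H) (ha : a ∈ R) (hb : b ∉ R) :
    ¬ (c ∈ R ↔ d ∈ R) := by
  intro hiff
  have hab : a ≠ b := fun e => hb (e ▸ ha)
  have hinv : ∀ z, dbl a b c d (dbl a b c d z) = z := by
    intro z
    simp only [dbl_apply hac had hbc hbd]
    grind
  have he : R ∩ R.image (dbl a b c d) = R.erase a := by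
    ext z
    rw [Finset.mem_inter, mem_image_of_invol hinv, Finset.mem_erase, dbl_apply hac had hbc hbd]
    grind
  exact hR.card_inter_ne_three hno (hR.image ht)
    (by rw [he, Finset.card_erase_of_mem ha, hR.1])

end Cfsg.Agent.Lib.PermThree
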