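import Mathlib
import Cfsg.Agent.Lib.PermThree.Basic

/-!
Consecutive triples in `Fin n` and the three-subgroup generated by their three-cycles.
-/

set_option autoImplicit false

namespace Cfsg.Agent.Lib.PermThree

open Equiv Equiv.Perm
open Cfsg.Agent.Lib.AltAut

variable {n : ℕ}

/-- The three-cycle `(3i, 3i+1, 3i+2)`. -/
def tri (i : ℕ) (h : 3 * i + 2 < n) : Perm (Fin n) :=
  cyc ⟨3 * i, by omega⟩ ⟨3 * i + 1, by omega⟩ ⟨3 * i + 2, h⟩

theorem isThreeCycle_tri (i : ℕ) (h : 3 * i + 2 < n) : (tri i h).IsThreeCycle :=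
  isThreeCycle_cyc (by simp) (by simp) (by simp)

theorem mem_support_tri {i : ℕ} {h : 3 * i + 2 < n} {x : Fin n} :
    x ∈ (tri i h).support ↔ (x : ℕ) / 3 = i := by
  rw [mem_support, tri, cyc_apply (by simp) (by simp) (by simp)]
  simp only [Fin.ext_iff]
  split_ifs <;> simp [Fin.ext_iff] <;> omega

theorem commute_tri (i j : ℕ) (hi : 3 * i + 2 < n) (hj : 3 * j + 2 < n) :
    Commute (tri i hi) (tri j hj) := by
  rcases eq_or_ne i j with rfl | hij
  · exact Commute.refl _
  refine Disjoint.commute fun x => ?_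
  by_cases hx : x ∈ (tri i hi).support
  · exact Or.inr (notMem_support.1 fun hx' => hij ((mem_support_tri.1 hx).symm.trans
      (mem_support_tri.1 hx')))
  · exact Or.inl (notMem_support.1 hx)

/-- The group generated by the three-cycles on consecutive triples. -/
def triGroup (n : ℕ) : Subgroup (Perm (Fin n)) :=
  Subgroup.closure {c | ∃ i, ∃ h : 3 * i + 2 < n, c = tri i h}

theorem tri_mem_triGroup (i : ℕ) (h : 3 * i + 2 < n) : tri i h ∈ triGroup n :=
  Subgroup.subset_closure ⟨i, h, rfl⟩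

theorem isPGroup_triGroup (n : ℕ) : IsPGroup 3 ↥(triGroup n) := by
  have hcom : ∀ a ∈ triGroup n, ∀ b ∈ triGroup n, a * b = b * a := by
    have h1 : triGroup n ≤ Subgroup.centralizer (triGroup n : Set (Perm (Fin n))) := by
      rw [triGroup, Subgroup.centralizer_closure]
      refine (Subgroup.closure_le _).2 ?_
      rintro _ ⟨i, hi, rfl⟩
      refine Subgroup.mem_centralizer_iff.2 ?_
      rintro _ ⟨j, hj, rfl⟩
      exact (commute_tri j i hj hi).eq
    exact fun a ha b hb => Subgroup.mem_centralizer_iff.1 (h1 hb) a ha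
  have key : ∀ a ∈ triGroup n, a ^ 3 = 1 := by
    intro a ha
    induction ha using Subgroup.closure_induction with
    | mem a ha =>
      obtain ⟨i, hi, rfl⟩ := ha
      rw [← (isThreeCycle_tri i hi).orderOf, pow_orderOf_eq_one]
    | one => simp
    | mul a b ha hb iha ihb =>
      rw [(show Commute a b from hcom a ha b hb).mul_pow, iha, ihb, mul_one]
    | inv a ha ih => rw [inv_pow, ih, inv_one]
  exact fun a => ⟨1, Subtype.ext (by rw [pow_one]; exact key a a.2)⟩

/-- A Sylow three-subgroup contains a conjugate of every `tri i`. -/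
theorem exists_conj_tri_mem (P : Sylow 3 (Perm (Fin n))) :
    ∃ g : Perm (Fin n), ∀ (i : ℕ) (h : 3 * i + 2 < n),
      g * tri i h * g⁻¹ ∈ (P : Subgroup (Perm (Fin n))) := by
  haveI : Fact (Nat.Prime 3) := ⟨Nat.prime_three⟩
  obtain ⟨Q, hQ⟩ := (isPGroup_triGroup n).exists_le_sylow
  obtain ⟨g, rfl⟩ := MulAction.exists_smul_eq (Perm (Fin n)) Q P
  refine ⟨g, fun i h => ?_⟩
  rw [Sylow.smul_def]
  exact Subgroup.smul_mem_pointwise_smul _ _ _ (hQ (tri_mem_triGroup i h))

end Cfsg.Agent.Lib.PermThree
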