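import Mathlib
import Cfsg.Agent.Lib.PermThree.Triples

/-!
Overgroups of a Sylow three-subgroup in the alternating group generate it, outside the degrees
`6`, `9` and `3 ^ a + 1`.
-/

set_option autoImplicit false

namespace Cfsg.Agent.Lib.PermThree

open Equiv Equiv.Perm
open Cfsg.Agent.Lib.AltAut

/-- The permutations preserving the partition into the fibres of `f`. -/
def partStab {α β : Type*} (f : α → β) : Subgroup (Perm α) where
  carrier := {g | ∀ x y, f (g x) = f (g y) ↔ f x = f y}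
  mul_mem' := fun {a b} ha hb x y => (ha (b x) (b y)).trans (hb x y)
  one_mem' := fun x y => Iff.rfl
  inv_mem' := fun {a} ha x y => by
    have := (ha (a⁻¹ x) (a⁻¹ y)).symm
    simpa using this

theorem mem_partStab_of_apply {α β : Type*} {f : α → β} {g : Perm α} (h : ∀ x, f (g x) = f x) :
    g ∈ partStab f := fun x y => by rw [h, h]

theorem cyc_mem_partStab {α β : Type*} [Fintype α] [DecidableEq α] {f : α → β} {a b c : α}
    (hab : a ≠ b) (hac : a ≠ c) (hbc : b ≠ c) (h1 : f a = f b) (h2 : f b = f c) :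
    cyc a b c ∈ partStab f := by
  refine mem_partStab_of_apply fun x => ?_
  rw [cyc_apply hab hac hbc]
  split_ifs <;> simp_all

theorem not_alt_le_partStab {α β : Type*} [Fintype α] [DecidableEq α] {f : α → β} {x y z : α}
    (hxy : x ≠ y) (hf : f x = f y) (hz : f z ≠ f x) : ¬ alternatingGroup α ≤ partStab f := by
  intro h
  have hxz : x ≠ z := fun e => hz (by rw [e])
  have hyz : y ≠ z := fun e => hz (by rw [← e, hf])
  have hmem := (h (cyc_mem hxy hxz hyz) x y).2 hf
  simp only [cyc_apply hxy hxz hyz] at hmem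
  simp [hxy.symm] at hmem
  exact hz (hmem.symm.trans hf.symm)

theorem mem_alternatingGroup_of_three {α : Type*} [Fintype α] [DecidableEq α] {g : Perm α} {k : ℕ}
    (h : g ^ 3 ^ k = 1) : g ∈ alternatingGroup α := by
  rw [mem_alternatingGroup]
  have h1 : (Perm.sign g) ^ 3 ^ k = 1 := by rw [← map_pow, h, map_one]
  rcases Int.units_eq_one_or (Perm.sign g) with e | e
  · exact e
  · rw [e, ((show Odd 3 by decide).pow).neg_one_pow] at h1
    exact absurd h1 (by decide)

/-- A three-group of permutations has no set of four points on which it contains all three-cycles. -/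
theorem Full.card_le_three {α : Type*} [Fintype α] [DecidableEq α] {P : Subgroup (Perm α)}
    (hP : IsPGroup 3 ↥P) {Ω : Finset α} (h : Full P Ω) : Ω.card ≤ 3 := by
  by_contra! h4
  obtain ⟨s, hs, hcard⟩ := Finset.exists_subset_card_eq (show 4 ≤ Ω.card by omega)
  obtain ⟨a, b, c, d, hab, hac, had, hbc, hbd, hcd, rfl⟩ := Finset.card_eq_four.1 hcard
  simp only [Finset.insert_subset_iff, Finset.singleton_subset_iff] at hs
  obtain ⟨ha, hb, hc, hd⟩ := hs
  set u := cyc a b c * cyc a b d with hu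
  have hmem : u ∈ P := P.mul_mem (h.cyc_mem' hab hac hbc ha hb hc) (h.cyc_mem' hab had hbd ha hb hd)
  have h2 : u ^ 2 = 1 := by
    ext z
    simp only [hu, pow_two, Perm.mul_apply, Perm.one_apply, cyc_apply hab hac hbc,
      cyc_apply hab had hbd]
    grind
  obtain ⟨k, hk⟩ := hP ⟨u, hmem⟩
  have hk' : u ^ 3 ^ k = 1 := congrArg Subtype.val hk
  obtain ⟨j, hj⟩ := (show Odd 3 by decide).pow (n := k)
  rw [hj, pow_succ, pow_mul, h2, one_pow, one_mul] at hk'
  have := Perm.ext_iff.mp hk' a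
  simp only [hu, Perm.mul_apply, Perm.one_apply, cyc_apply hab hac hbc, cyc_apply hab had hbd] at this
  grind

variable {n : ℕ} {P : Sylow 3 (Perm (Fin n))}

theorem sylow_le_alt (g : Perm (Fin n)) (hg : g ∈ (P : Subgroup (Perm (Fin n)))) :
    g ∈ alternatingGroup (Fin n) := by
  obtain ⟨k, hk⟩ := P.2 ⟨g, hg⟩
  exact mem_alternatingGroup_of_three (k := k) (congrArg Subtype.val hk)

variable (hT : triGroup n ≤ (P : Subgroup (Perm (Fin n))))
include hT

/-- The three-cycles of `P` are those on the triples. -/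
theorem exists_tri_of_mem {d : Perm (Fin n)} (hd : d.IsThreeCycle)
    (hdP : d ∈ (P : Subgroup (Perm (Fin n)))) :
    ∃ i, 3 * i + 2 < n ∧ ∀ x ∈ d.support, (x : ℕ) / 3 = i := by
  obtain ⟨x, hx, hx3⟩ : ∃ x ∈ d.support, (x : ℕ) < 3 * (n / 3) := by
    by_contra! hcon
    have hmaps : Set.MapsTo (fun x : Fin n => (x : ℕ) - 3 * (n / 3)) (d.support : Set (Fin n))
        (Finset.range (n % 3) : Set ℕ) := fun x hx => by
      have := hcon x hx
      have := x.2
      simp
      omega
    have := Finset.card_le_card_of_injOn _ hmaps fun x hx y hy e => by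
      have := hcon x hx
      have := hcon y hy
      exact Fin.ext (by omega)
    rw [hd.card_support, Finset.card_range] at this
    omega
  have hlt : 3 * ((x : ℕ) / 3) + 2 < n := by omega
  obtain ⟨Ω, htΩ, hΩ⟩ := exists_isBlock (isThreeCycle_tri _ hlt) (hT (tri_mem_triGroup _ hlt))
  have heq : (tri _ hlt).support = Ω := Finset.eq_of_subset_of_card_le htΩ
    ((hΩ.full.card_le_three P.2).trans (isThreeCycle_tri _ hlt).card_support.ge)
  refine ⟨_, hlt, fun y hy => (mem_support_tri (h := hlt)).1 ?_⟩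
  rw [heq]
  exact hΩ.closed d hdP hd ⟨x, hx, heq ▸ mem_support_tri.2 rfl⟩ hy

theorem sylow_apply_aux {g : Perm (Fin n)} (hg : g ∈ (P : Subgroup (Perm (Fin n))))
    {x : Fin n} (hx : (x : ℕ) < 3 * (n / 3)) :
    (g x : ℕ) < 3 * (n / 3) ∧ ∀ y : Fin n, (y : ℕ) / 3 = (x : ℕ) / 3 → (g y : ℕ) / 3 = (g x : ℕ) / 3 := by
  have hlt : 3 * ((x : ℕ) / 3) + 2 < n := by omega
  obtain ⟨i, hi, hall⟩ := exists_tri_of_mem hT (d := g * tri _ hlt * g⁻¹)
    (by rw [IsThreeCycle, cycleType_conj]; exact isThreeCycle_tri _ hlt)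
    (mul_mem (mul_mem hg (hT (tri_mem_triGroup _ hlt))) (inv_mem hg))
  have hmem : ∀ y : Fin n, (y : ℕ) / 3 = (x : ℕ) / 3 → (g y : ℕ) / 3 = i := fun y hy => by
    refine hall _ ?_
    rw [support_conj, Finset.mem_map]
    exact ⟨y, mem_support_tri.2 hy, rfl⟩
  have hgx := hmem x rfl
  exact ⟨by omega, fun y hy => (hmem y hy).trans hgx.symm⟩

theorem sylow_le_partStab_div :
    (P : Subgroup (Perm (Fin n))) ≤ partStab fun x : Fin n => (x : ℕ) / 3 := by
  have key : ∀ g ∈ (P : Subgroup (Perm (Fin n))), ∀ x y : Fin n, (x : ℕ) / 3 = (y : ℕ) / 3 →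
      (g x : ℕ) / 3 = (g y : ℕ) / 3 := by
    intro g hg x y hxy
    by_cases hx : (x : ℕ) < 3 * (n / 3)
    · exact ((sylow_apply_aux hT hg hx).2 y hxy.symm).symm
    · have aux : ∀ z : Fin n, ¬ (z : ℕ) < 3 * (n / 3) → (g z : ℕ) / 3 = n / 3 := by
        intro z hz
        have h' : ¬ (g z : ℕ) < 3 * (n / 3) := fun h => hz (by
          have := (sylow_apply_aux hT (inv_mem hg) h).1
          simpa using this)
        have := (g z).2
        omega
      rw [aux x hx, aux y (by omega)]
  intro g hg x y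
  refine ⟨fun h => ?_, key g hg x y⟩
  have := key g⁻¹ (inv_mem hg) _ _ h
  simpa using this

theorem sylow_fix {g : Perm (Fin n)} (hg : g ∈ (P : Subgroup (Perm (Fin n)))) {x : Fin n}
    (hx : ¬ (x : ℕ) < 3 * (n / 3)) : g x = x := by
  have hout : ∀ z : Fin n, ¬ (z : ℕ) < 3 * (n / 3) → ¬ (g z : ℕ) < 3 * (n / 3) := fun z hz h => hz (by
    have := (sylow_apply_aux hT (inv_mem hg) h).1
    simpa using this)
  have h1 := hout x hx
  have h2 := hout _ h1
  by_contra hne
  have hgg : (g ^ 2) x = x := by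
    rw [pow_two, Perm.mul_apply]
    have hne2 : g (g x) ≠ g x := fun e => hne (g.injective e)
    have := x.2
    have := (g x).2
    have := (g (g x)).2
    simp only [Fin.ext_iff] at hne hne2
    exact Fin.ext (by omega)
  obtain ⟨k, hk⟩ := P.2 ⟨g, hg⟩
  have hk' : g ^ 3 ^ k = 1 := congrArg Subtype.val hk
  obtain ⟨j, hj⟩ := (show Odd 3 by decide).pow (n := k)
  rw [hj, pow_succ', pow_mul] at hk'
  have := Perm.ext_iff.mp hk' x
  rw [Perm.mul_apply, pow_apply_eq_self_of_apply_eq_self hgg, Perm.one_apply] at this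
  exact hne this

/-- An orbit of `P`, as a function. -/
theorem sylow_le_partStab_mem (S : Set (Fin n))
    (hS : ∀ g ∈ (P : Subgroup (Perm (Fin n))), ∀ x ∈ S, g x ∈ S) :
    (P : Subgroup (Perm (Fin n))) ≤ partStab fun x : Fin n => (x ∈ S : Prop) := by
  have key : ∀ g ∈ (P : Subgroup (Perm (Fin n))), ∀ x, (g x ∈ S) = (x ∈ S) := fun g hg x =>
    propext ⟨fun h => by simpa using hS g⁻¹ (inv_mem hg) _ h, hS g hg x⟩
  exact fun g hg => mem_partStab_of_apply fun x => key g hg x

variable {J : Subgroup (Perm (Fin n))}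
  (hJ : ∀ A : Subgroup (Perm (Fin n)), (P : Subgroup (Perm (Fin n))) ≤ A →
    ¬ alternatingGroup (Fin n) ≤ A → A ⊓ alternatingGroup (Fin n) ≤ J)
include hJ

/-- A three-cycle inside a fibre of an admissible partition lies in `J`. -/
theorem cyc_mem_of_part {β : Type*} {f : Fin n → β}
    (hP : (P : Subgroup (Perm (Fin n))) ≤ partStab f) {x y z : Fin n} (hxy : x ≠ y) (hf : f x = f y)
    (hz : f z ≠ f x) {a b c : Fin n} (hab : a ≠ b) (hac : a ≠ c) (hbc : b ≠ c) (h1 : f a = f b)
    (h2 : f b = f c) : cyc a b c ∈ J :=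
  hJ _ hP (not_alt_le_partStab hxy hf hz) ⟨cyc_mem_partStab hab hac hbc h1 h2, cyc_mem hab hac hbc⟩

/-- `J` is the whole alternating group if it has a three-cycle meeting two triples and `3 ∣ n`. -/
theorem alt_le_of_two_triples (hdiv : 3 ∣ n) {x x' y : Fin n} (hxx : x ≠ x')
    (h1 : (x : ℕ) / 3 = (x' : ℕ) / 3) (h2 : (x : ℕ) / 3 ≠ (y : ℕ) / 3) (hc : cyc x x' y ∈ J) :
    alternatingGroup (Fin n) ≤ J := by
  have hxy : x ≠ y := fun e => h2 (by rw [e])
  have hx'y : x' ≠ y := fun e => h2 (by rw [h1, e])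
  have hW : ∀ g : Perm (Fin n), g ∈ partStab (fun z : Fin n => (z : ℕ) / 3) →
      g ∈ alternatingGroup (Fin n) → g ∈ J := fun g hg hga =>
    hJ _ (sylow_le_partStab_div hT) (not_alt_le_partStab (z := y) hxx h1 (Ne.symm h2)) ⟨hg, hga⟩
  have htri : ∀ (i : ℕ) (hi : 3 * i + 2 < n), tri i hi ∈ J := fun i hi =>
    hW _ (sylow_le_partStab_div hT (hT (tri_mem_triGroup i hi))) (sylow_le_alt _ (hT (tri_mem_triGroup i hi)))
  obtain ⟨Ω, hsub, hΩ⟩ := exists_isBlock (isThreeCycle_cyc hxx hxy hx'y) hc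
  have hmemcyc : ∀ {a b c : Fin n}, a ≠ b → a ≠ c → b ≠ c →
      a ∈ (cyc a b c).support ∧ b ∈ (cyc a b c).support ∧ c ∈ (cyc a b c).support := by
    intro a b c hab hac hbc
    simp only [mem_support, cyc_apply hab hac hbc]
    grind
  have hxΩ := hsub (hmemcyc hxx hxy hx'y).1
  have hx'Ω := hsub (hmemcyc hxx hxy hx'y).2.1
  have hyΩ := hsub (hmemcyc hxx hxy hx'y).2.2
  have htriple : ∀ a b : Fin n, a ∈ Ω → (b : ℕ) / 3 = (a : ℕ) / 3 → b ∈ Ω := by
    intro a b ha hab
    have hlt : 3 * ((a : ℕ) / 3) + 2 < n := by have := a.2; omega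
    exact hΩ.closed _ (htri _ hlt) (isThreeCycle_tri _ hlt) ⟨a, mem_support_tri.2 rfl, ha⟩
      (mem_support_tri.2 hab)
  have hall : ∀ z, z ∈ Ω := by
    intro z
    by_cases hzx : (z : ℕ) / 3 = (x : ℕ) / 3
    · exact htriple x z hxΩ hzx
    let wf : Fin n → Fin n := fun a =>
      if (a : ℕ) / 3 = (y : ℕ) / 3 then ⟨3 * ((z : ℕ) / 3) + (a : ℕ) % 3, by have := z.2; omega⟩
      else if (a : ℕ) / 3 = (z : ℕ) / 3 then ⟨3 * ((y : ℕ) / 3) + (a : ℕ) % 3, by have := y.2; omega⟩
      else a
    have hwv : ∀ a : Fin n, (wf a : ℕ) / 3 = if (a : ℕ) / 3 = (y : ℕ) / 3 then (z : ℕ) / 3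
        else if (a : ℕ) / 3 = (z : ℕ) / 3 then (y : ℕ) / 3 else (a : ℕ) / 3 := by
      intro a
      simp only [wf]
      split_ifs <;> simp <;> omega
    have hinv : Function.Involutive wf := by
      intro a
      have h := hwv a
      apply Fin.ext
      simp only [wf] at h ⊢
      split_ifs at * <;> simp only [Fin.val_mk] at * <;> omega
    let w : Perm (Fin n) := hinv.toPerm wf
    have hwx : ∀ a : Fin n, (a : ℕ) / 3 = (x : ℕ) / 3 → w a = a := fun a ha => by
      show wf a = a
      simp only [wf]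
      rw [if_neg (by omega), if_neg (by omega)]
    have hwy : (w y : ℕ) / 3 = (z : ℕ) / 3 := by
      show (wf y : ℕ) / 3 = _
      rw [hwv, if_pos rfl]
    have hwmem : w ∈ partStab fun a : Fin n => (a : ℕ) / 3 := fun a b => by
      show (wf a : ℕ) / 3 = (wf b : ℕ) / 3 ↔ _
      rw [hwv, hwv]
      show _ ↔ (a : ℕ) / 3 = (b : ℕ) / 3
      split_ifs <;> omega
    have hsw : swap x x' ∈ partStab fun a : Fin n => (a : ℕ) / 3 :=
      mem_partStab_of_apply fun a => by rw [swap_apply_def]; split_ifs <;> simp_all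
    suffices ∀ σ : Perm (Fin n), σ ∈ J → σ x ∈ Ω → σ y = w y → z ∈ Ω by
      by_cases hev : w ∈ alternatingGroup (Fin n)
      · exact this w (hW w hwmem hev) (by rw [hwx x rfl]; exact hxΩ) rfl
      · refine this (w * swap x x') (hW _ (mul_mem hwmem hsw) ?_) ?_ ?_
        · rw [mem_alternatingGroup, map_mul, sign_swap hxx,
            (Int.units_eq_one_or (Perm.sign w)).resolve_left (mt mem_alternatingGroup.2 hev)]
          rfl
        · rw [Perm.mul_apply, swap_apply_left, hwx x' h1.symm]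
          exact hx'Ω
        · rw [Perm.mul_apply, swap_apply_of_ne_of_ne hxy.symm hx'y.symm]
    intro σ hσ hσx hσy
    have hm : cyc (σ x) (σ x') (σ y) ∈ J := by
      rw [← cyc_conj]
      exact mul_mem (mul_mem hσ hc) (inv_mem hσ)
    have hd := hmemcyc (σ.injective.ne hxx) (σ.injective.ne hxy) (σ.injective.ne hx'y)
    have hyΩ' := hΩ.closed _ hm (isThreeCycle_cyc (σ.injective.ne hxx) (σ.injective.ne hxy)
      (σ.injective.ne hx'y)) ⟨_, hd.1, hσx⟩ hd.2.2
    exact htriple _ z (hσy ▸ hyΩ') hwy.symm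
  rw [← closure_three_cycles_eq_alternating]
  exact (Subgroup.closure_le _).2 fun d hd => hΩ.full d hd fun a _ => hall a

/-- **Overgroups of a Sylow three-subgroup generate the alternating group.** -/
theorem alt_le_or_special (hn : 5 ≤ n) :
    alternatingGroup (Fin n) ≤ J ∨ n = 6 ∨ n = 9 ∨ ∃ a : ℕ, 2 ≤ a ∧ n = 3 ^ a + 1 := by
  haveI : Fact (Nat.Prime 3) := ⟨Nat.prime_three⟩
  by_cases h6 : n = 6
  · exact Or.inr (Or.inl h6)
  by_cases h9 : n = 9
  · exact Or.inr (Or.inr (Or.inl h9))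
  let x0 : Fin n := ⟨0, by omega⟩
  let x1 : Fin n := ⟨1, by omega⟩
  let y0 : Fin n := ⟨3, by omega⟩
  have h01 : x0 ≠ x1 := by simp [x0, x1]
  have hx0v : (x0 : ℕ) = 0 := rfl
  have hx1v : (x1 : ℕ) = 1 := rfl
  have hlt0 : 3 * 0 + 2 < n := by omega
  have ht0 : tri 0 hlt0 x0 = x1 := by
    rw [tri, cyc_apply (by simp) (by simp) (by simp)]
    simp [x0, x1]
  -- full alternating group away from a fixed point
  have hfix : ∀ y : Fin n, ¬ (y : ℕ) < 3 * (n / 3) → Full J (Finset.univ.erase y) := by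
    intro y hy d hd hs
    have hdy : d y = y := notMem_support.1 fun h => by simpa using hs h
    refine hJ (MulAction.stabilizer (Perm (Fin n)) y) (fun g hg => sylow_fix hT hg hy) (fun h => ?_)
      ⟨hdy, hd.mem_alternatingGroup⟩
    have := h (cyc_mem (u := x0) (v := x1) (w := y) h01 (by simp [x0, Fin.ext_iff]; omega)
      (by simp [x1, Fin.ext_iff]; omega))
    rw [MulAction.mem_stabilizer_iff, Perm.smul_def,
      cyc_apply h01 (by simp [x0, Fin.ext_iff]; omega) (by simp [x1, Fin.ext_iff]; omega)] at this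
    simp [x0, x1, Fin.ext_iff] at this
    split_ifs at this <;> simp at this <;> omega
  have hfinish : ∀ (y a b : Fin n), ¬ (y : ℕ) < 3 * (n / 3) → a ≠ y → b ≠ y → a ≠ b →
      cyc a b y ∈ J → alternatingGroup (Fin n) ≤ J := by
    intro y a b hy hay hby hab hm
    have := (hfix y hy).insert_of_cyc (Finset.mem_erase.2 ⟨hay, Finset.mem_univ _⟩)
      (Finset.mem_erase.2 ⟨hby, Finset.mem_univ _⟩) hab (Finset.notMem_erase _ _) hm
    rw [← closure_three_cycles_eq_alternating]
    refine (Subgroup.closure_le _).2 fun d hd => this d hd ?_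
    rw [Finset.insert_erase (Finset.mem_univ _)]
    exact Finset.subset_univ _
  obtain hr | hr | hr : n % 3 = 0 ∨ n % 3 = 1 ∨ n % 3 = 2 := by omega
  rotate_left 2
  · -- two fixed points
    let y1 : Fin n := ⟨n - 1, by omega⟩
    let y2 : Fin n := ⟨n - 2, by omega⟩
    refine Or.inl (hfinish y1 x0 x1 (by simp [y1]; omega) (by simp [x0, y1]; omega)
      (by simp [x1, y1]; omega) h01 ?_)
    refine (hfix y2 (by simp [y2]; omega)) _ (isThreeCycle_cyc h01 (by simp [x0, y1]; omega)
      (by simp [x1, y1]; omega)) (cyc_support_subset h01 (by simp [x0, y1]; omega)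
      (by simp [x1, y1]; omega) ?_ ?_ ?_) <;>
      simp [x0, x1, y1, y2] <;> omega
  all_goals
    -- the orbit of the first point
    let O : Set (Fin n) := MulAction.orbit ↥(P : Subgroup (Perm (Fin n))) x0
    have hOinv : ∀ g ∈ (P : Subgroup (Perm (Fin n))), ∀ a ∈ O, g a ∈ O := fun g hg a ha => by
      obtain ⟨k, rfl⟩ := ha
      exact ⟨⟨g, hg⟩ * k, rfl⟩
    have hx0O : x0 ∈ O := MulAction.mem_orbit_self _
    have hx1O : x1 ∈ O := ht0 ▸ hOinv _ (hT (tri_mem_triGroup 0 hlt0)) _ hx0O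
  · -- three divides the degree
    left
    by_cases htrans : ∀ a, a ∈ O
    · -- blocks from a maximal subgroup
      let K : Subgroup ↥(P : Subgroup (Perm (Fin n))) :=
        { carrier := {g | ((g : Perm (Fin n)) x0 : ℕ) / 3 = 0}
          one_mem' := by simp [x0]
          mul_mem' := fun {a b} ha hb => by
            have : ((a : Perm (Fin n)) ((b : Perm (Fin n)) x0) : ℕ) / 3 =
                ((a : Perm (Fin n)) x0 : ℕ) / 3 :=
              (sylow_le_partStab_div hT a.2 ((b : Perm (Fin n)) x0) x0).2 (by simpa [x0] using hb)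
            simp only [Set.mem_setOf_eq] at ha ⊢
            simp only [Subgroup.coe_mul, Perm.mul_apply]
            omega
          inv_mem' := fun {a} ha => by
            simp only [Set.mem_setOf_eq] at ha ⊢
            have := (sylow_le_partStab_div hT a⁻¹.2 ((a : Perm (Fin n)) x0) x0).2 (by
              simpa [x0] using ha)
            simp only [Subgroup.coe_inv, Perm.inv_def, Equiv.symm_apply_apply] at this ⊢
            simpa [x0] using this.symm }
      have hK : K ≠ ⊤ := fun h => by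
        obtain ⟨k, hk⟩ := htrans y0
        have := (h ▸ Subgroup.mem_top k : k ∈ K)
        change ((k : Perm (Fin n)) x0 : ℕ) / 3 = 0 at this
        rw [show (k : Perm (Fin n)) x0 = y0 from hk] at this
        simp [y0] at this
      obtain ⟨M, hM, hKM⟩ := (eq_top_or_exists_le_coatom K).resolve_left hK
      haveI : Group.IsNilpotent ↥(P : Subgroup (Perm (Fin n))) := P.2.isNilpotent
      haveI hMn : M.Normal :=
        Subgroup.NormalizerCondition.normal_of_coatom M Group.normalizerCondition_of_isNilpotent hM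
      let f : Fin n → Set (Fin n) := fun a => MulAction.orbit ↥M a
      have hf : ∀ a b, f a = f b ↔ ∃ k : ↥M, ((k : ↥(P : Subgroup (Perm (Fin n)))) : Perm (Fin n)) b = a :=
        fun a b => MulAction.orbit_eq_iff
      have hstab : (P : Subgroup (Perm (Fin n))) ≤ partStab f := by
        have key : ∀ g ∈ (P : Subgroup (Perm (Fin n))), ∀ a b, f a = f b → f (g a) = f (g b) := by
          intro g hg a b h
          obtain ⟨k, hk⟩ := (hf a b).1 h
          refine (hf _ _).2 ⟨⟨⟨g, hg⟩ * k * ⟨g, hg⟩⁻¹, hMn.conj_mem _ k.2 _⟩, ?_⟩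
          simp [hk]
        intro g hg a b
        refine ⟨fun h => ?_, key g hg a b⟩
        have := key g⁻¹ (inv_mem hg) _ _ h
        simpa using this
      obtain ⟨b, hb⟩ : ∃ b, f b ≠ f x0 := by
        by_contra! hcon
        refine hM.1 (eq_top_iff.2 fun g _ => ?_)
        obtain ⟨k, hk⟩ := (hf _ _).1 (hcon ((g : Perm (Fin n)) x0))
        have hm : (k : ↥(P : Subgroup (Perm (Fin n))))⁻¹ * g ∈ M := hKM (by
          show ((((k : ↥(P : Subgroup (Perm (Fin n))))⁻¹ * g : ↥(P : Subgroup (Perm (Fin n)))) :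
            Perm (Fin n)) x0 : ℕ) / 3 = 0
          simp [← hk, x0])
        simpa using M.mul_mem k.2 hm
      obtain ⟨k, hk⟩ : ∃ k : ↥M, (((k : ↥(P : Subgroup (Perm (Fin n)))) : Perm (Fin n)) x0 : ℕ) / 3 ≠ 0 := by
        by_contra! hcon
        haveI : Nontrivial (↥(P : Subgroup (Perm (Fin n))) ⧸ M) := QuotientGroup.nontrivial_iff.2 hM.1
        have hdvd : 3 ∣ Nat.card (↥(P : Subgroup (Perm (Fin n))) ⧸ M) := by
          obtain ⟨j, hj0, hj⟩ := (IsPGroup.nontrivial_iff_card (P.2.to_quotient M)).1 inferInstance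
          rw [hj]
          exact dvd_pow_self 3 (by omega)
        obtain ⟨q, hq⟩ := exists_prime_orderOf_dvd_card' 3 hdvd
        obtain ⟨g, rfl⟩ := QuotientGroup.mk_surjective q
        have hg3 : g ^ 3 ∈ M := by
          rw [← QuotientGroup.eq_one_iff, QuotientGroup.mk_pow]
          simpa [hq] using pow_orderOf_eq_one (g : ↥(P : Subgroup (Perm (Fin n))) ⧸ M)
        have hgM : g ∉ M := fun h => by
          rw [(QuotientGroup.eq_one_iff g).2 h, orderOf_one] at hq
          omega
        have htop : Subgroup.zpowers g ⊔ M = ⊤ :=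
          hM.2 _ (lt_of_le_of_ne le_sup_right fun e => hgM (e ▸ Subgroup.mem_sup_left (Subgroup.mem_zpowers g)))
        have hsub : ∀ j : Fin (n / 3), ∃ i : Fin 3,
            ((((g ^ (i : ℕ) : ↥(P : Subgroup (Perm (Fin n))))) : Perm (Fin n)) x0 : ℕ) / 3 = j := by
          intro j
          obtain ⟨a, ha⟩ := htrans ⟨3 * (j : ℕ), by omega⟩
          have hmem : a ∈ Subgroup.zpowers g ⊔ M := htop ▸ Subgroup.mem_top a
          rw [Subgroup.mem_sup_of_normal_right] at hmem
          obtain ⟨u, hu, v, hv, rfl⟩ := hmem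
          obtain ⟨i, rfl⟩ := Subgroup.mem_zpowers_iff.1 hu
          obtain ⟨i', hi'⟩ : ∃ i' : Fin 3, ∃ l : ℤ, i = ((i' : ℕ) : ℤ) + 3 * l :=
            ⟨⟨(i % 3).toNat, by omega⟩, i / 3, by simp; omega⟩
          obtain ⟨l, rfl⟩ := hi'
          refine ⟨i', ?_⟩
          have hv' : (g ^ 3) ^ l * v ∈ M := M.mul_mem (M.zpow_mem hg3 l) hv
          have e1 : g ^ (((i' : ℕ) : ℤ) + 3 * l) * v = g ^ (i' : ℕ) * ((g ^ 3) ^ l * v) := by
            rw [zpow_add, zpow_natCast, zpow_mul, mul_assoc]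
            rfl
          have h0 := hcon ⟨_, hv'⟩
          have hval : (((g ^ (i' : ℕ) * ((g ^ 3) ^ l * v) : ↥(P : Subgroup (Perm (Fin n)))) :
              Perm (Fin n)) x0 : ℕ) = 3 * (j : ℕ) := by
            rw [← e1]
            exact congrArg Fin.val ha
          simp only [Subgroup.coe_mul, Perm.mul_apply] at hval h0
          have h5 : _ / 3 = ((g ^ (i' : ℕ) : ↥(P : Subgroup (Perm (Fin n)))) : Perm (Fin n)) x0 / (3 : ℕ) :=
            (sylow_le_partStab_div hT (g ^ (i' : ℕ)).2 _ x0).2 (h0.trans (by simp [x0]))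
          omega
        choose i hi using hsub
        have hinj : Function.Injective i := fun a b e => Fin.ext (by rw [← hi a, ← hi b, e])
        have := Fintype.card_le_of_injective i hinj
        simp at this
        omega
      have hfx : f x1 = f x0 := (hf _ _).2 ⟨⟨⟨_, hT (tri_mem_triGroup 0 hlt0)⟩, hKM (by
        show ((tri 0 hlt0) x0 : ℕ) / 3 = 0
        rw [ht0, hx1v])⟩, ht0⟩
      let y := ((k : ↥(P : Subgroup (Perm (Fin n)))) : Perm (Fin n)) x0
      have hfy : f y = f x0 := (hf _ _).2 ⟨k, rfl⟩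
      refine alt_le_of_two_triples hT hJ (Nat.dvd_of_mod_eq_zero hr) h01 (y := y)
        (by simp [x0, x1]) (by simpa [x0, y] using Ne.symm hk)
        (cyc_mem_of_part hT hJ hstab h01 hfx.symm hb h01 ?_ ?_ hfx.symm (hfx.trans hfy.symm))
      · intro e; exact hk (show (y : ℕ) / 3 = 0 by rw [← e, hx0v])
      · intro e; exact hk (show (y : ℕ) / 3 = 0 by rw [← e, hx1v])
    · -- an orbit and its complement
      push Not at htrans
      obtain ⟨z, hz⟩ := htrans
      have hf : (P : Subgroup (Perm (Fin n))) ≤ partStab fun a : Fin n => (a ∈ O : Prop) :=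
        sylow_le_partStab_mem hT O hOinv
      have hOtri : ∀ a b : Fin n, (a : ℕ) / 3 = (b : ℕ) / 3 → a ∈ O → b ∈ O := by
        intro a b hab ha
        have hlt : 3 * ((a : ℕ) / 3) + 2 < n := by omega
        obtain ⟨i, hi⟩ := (isThreeCycle_tri _ hlt).isCycle.exists_pow_eq
          (mem_support.1 (mem_support_tri.2 rfl)) (mem_support.1 (mem_support_tri.2 hab.symm))
        exact hi ▸ hOinv _ (pow_mem (hT (tri_mem_triGroup _ hlt)) i) _ ha
      have hne : ∀ {a : Fin n}, a ∉ O → ((a ∈ O : Prop)) ≠ (x0 ∈ O) := fun {a} ha e => ha (e ▸ hx0O)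
      by_cases hbig : ∃ y ∈ O, (y : ℕ) / 3 ≠ 0
      · obtain ⟨y, hy, hy0⟩ := hbig
        refine alt_le_of_two_triples hT hJ (Nat.dvd_of_mod_eq_zero hr) h01 (y := y)
          (by simp [x0, x1]) (by simpa [x0] using Ne.symm hy0)
          (cyc_mem_of_part hT hJ hf h01 (propext ⟨fun _ => hx1O, fun _ => hx0O⟩) (hne hz) h01
            ?_ ?_ (propext ⟨fun _ => hx1O, fun _ => hx0O⟩) (propext ⟨fun _ => hy, fun _ => hx1O⟩))
        · intro e; exact hy0 (by rw [← e, hx0v])
        · intro e; exact hy0 (by rw [← e]; simp [x1])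
      · push Not at hbig
        let a : Fin n := ⟨3, by omega⟩
        let a' : Fin n := ⟨4, by omega⟩
        let b : Fin n := ⟨6, by omega⟩
        have hnot : ∀ c : Fin n, 3 ≤ (c : ℕ) → c ∉ O := fun c hc h => by
          have := hbig c h; omega
        have heq : ∀ c d : Fin n, 3 ≤ (c : ℕ) → 3 ≤ (d : ℕ) → ((c ∈ O : Prop) = (d ∈ O)) :=
          fun c d hc hd => propext ⟨fun h => absurd h (hnot c hc), fun h => absurd h (hnot d hd)⟩
        exact alt_le_of_two_triples hT hJ (Nat.dvd_of_mod_eq_zero hr) (x := a) (x' := a') (y := b)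
          (by simp [a, a']) (by simp [a, a']) (by simp [a, b])
          (cyc_mem_of_part hT hJ hf h01 (propext ⟨fun _ => hx1O, fun _ => hx0O⟩) (hne hz)
            (by simp [a, a']) (by simp [a, b]) (by simp [a', b])
            (heq a a' (by simp [a]) (by simp [a'])) (heq a' b (by simp [a']) (by simp [b])))
  · -- one fixed point
    let y : Fin n := ⟨n - 1, by omega⟩
    have hy : ¬ (y : ℕ) < 3 * (n / 3) := by simp [y]; omega
    by_cases htrans : ∀ a : Fin n, a ≠ y → a ∈ O
    · refine Or.inr (Or.inr (Or.inr ?_))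
      obtain ⟨k, hk⟩ := (IsPGroup.card_orbit (P.2) x0)
      have hyO : y ∉ O := by
        rintro ⟨g, hg⟩
        have h1 : (g : Perm (Fin n)) x0 = y := hg
        have := (g : Perm (Fin n)).injective (h1.trans (sylow_fix hT g.2 hy).symm)
        simp [x0, y, Fin.ext_iff] at this
        omega
      have hO : O = {y}ᶜ := Set.ext fun a => ⟨fun ha e => hyO (e ▸ ha), htrans a⟩
      have hcard : Nat.card O + 1 = n := by
        rw [hO, Nat.card_eq_fintype_card, Fintype.card_compl_set, Fintype.card_fin,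
          Set.card_singleton]
        omega
      change Nat.card O = 3 ^ k at hk
      refine ⟨k, ?_, by omega⟩
      by_contra hk2
      interval_cases k <;> omega
    · push Not at htrans
      obtain ⟨z, hzy, hz⟩ := htrans
      let S : Set (Fin n) := insert y O
      have hS : ∀ g ∈ (P : Subgroup (Perm (Fin n))), ∀ a ∈ S, g a ∈ S := by
        rintro g hg a (rfl | ha)
        · exact Or.inl (sylow_fix hT hg hy)
        · exact Or.inr (hOinv g hg a ha)
      have h0y : x0 ≠ y := by simp [x0, y, Fin.ext_iff]; omega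
      have h1y : x1 ≠ y := by simp [x1, y, Fin.ext_iff]; omega
      refine Or.inl (hfinish y x0 x1 hy h0y h1y h01 (cyc_mem_of_part hT hJ
        (sylow_le_partStab_mem hT S hS) h01 ?_ (z := z) ?_ h01 h0y h1y ?_ ?_))
      · exact propext ⟨fun _ => Or.inr hx1O, fun _ => Or.inr hx0O⟩
      · intro e
        rcases (e ▸ Or.inr hx0O : z ∈ S) with h | h
        exacts [hzy h, hz h]
      · exact propext ⟨fun _ => Or.inr hx1O, fun _ => Or.inr hx0O⟩
      · exact propext ⟨fun _ => Or.inl rfl, fun _ => Or.inr hx1O⟩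

end Cfsg.Agent.Lib.PermThree
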