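import Mathlib
import Cfsg.Agent.Lib.PermThree.Quads

/-!
Subgroups of the symmetric group with quasisimple generalized Fitting subgroup containing a Sylow
two-subgroup of the alternating group.
-/

set_option autoImplicit false

namespace Cfsg.Agent.Lib.PermThree

open Equiv Equiv.Perm Cfsg
open Cfsg.Agent.Lib.AltAut

/-- The standard double transpositions: on consecutive pairs, and on consecutive quadruples. -/
def dblGens (n : ℕ) : Set (Perm (Fin n)) :=
  {t | (∃ (k l : ℕ) (hk : 2 * k + 1 < n) (hl : 2 * l + 1 < n), k ≠ l ∧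
      t = dbl ⟨2 * k, by omega⟩ ⟨2 * k + 1, hk⟩ ⟨2 * l, by omega⟩ ⟨2 * l + 1, hl⟩) ∨
    ∃ (i : ℕ) (h : 4 * i + 3 < n),
      t = dbl ⟨4 * i, by omega⟩ ⟨4 * i + 2, by omega⟩ ⟨4 * i + 1, by omega⟩ ⟨4 * i + 3, h⟩}

variable {n : ℕ}

theorem pow_four_eq_one {g : Perm (Fin n)} (hq : ∀ x, (g x : ℕ) / 4 = (x : ℕ) / 4)
    (hp : ∀ x y, (g x : ℕ) / 2 = (g y : ℕ) / 2 ↔ (x : ℕ) / 2 = (y : ℕ) / 2) : g ^ 4 = 1 := by
  have h2 : ∀ x, (g (g x) : ℕ) / 2 = (x : ℕ) / 2 := by
    intro x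
    have h1 := hq x
    have h1' := hq (g x)
    have h3 := hp (g x) x
    omega
  ext x
  rw [show (4 : ℕ) = 2 + 2 from rfl, pow_add, pow_two, Perm.mul_apply, Perm.mul_apply, Perm.mul_apply,
    Perm.one_apply]
  by_cases hne : g (g x) = x
  · rw [hne, hne]
  · have h3 : g (g (g (g x))) ≠ g (g x) := fun e => hne (g.injective (g.injective e))
    have := h2 x
    have := h2 (g (g x))
    simp only [ne_eq, Fin.ext_iff] at hne h3 ⊢
    omega

theorem dblGens_isPGroup (n : ℕ) : IsPGroup 2 ↥(Subgroup.closure (dblGens n)) := by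
  let L : Subgroup (Perm (Fin n)) :=
    { carrier := {g | (∀ x, (g x : ℕ) / 4 = (x : ℕ) / 4) ∧
        ∀ x y, (g x : ℕ) / 2 = (g y : ℕ) / 2 ↔ (x : ℕ) / 2 = (y : ℕ) / 2}
      mul_mem' := fun {a b} ha hb => ⟨fun x => (ha.1 (b x)).trans (hb.1 x),
        fun x y => (ha.2 (b x) (b y)).trans (hb.2 x y)⟩
      one_mem' := ⟨fun x => rfl, fun x y => Iff.rfl⟩
      inv_mem' := fun {a} ha => ⟨fun x => by simpa using (ha.1 (a⁻¹ x)).symm,
        fun x y => by simpa using (ha.2 (a⁻¹ x) (a⁻¹ y)).symm⟩ }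
  have hle : Subgroup.closure (dblGens n) ≤ L := by
    refine (Subgroup.closure_le _).2 fun t ht => ?_
    rcases ht with ⟨k, l, hk, hl, hkl, rfl⟩ | ⟨i, hi, rfl⟩
    · have h2 : ∀ x, (dbl (⟨2 * k, by omega⟩ : Fin n) ⟨2 * k + 1, hk⟩ ⟨2 * l, by omega⟩
          ⟨2 * l + 1, hl⟩ x : ℕ) / 2 = (x : ℕ) / 2 := by
        intro x
        rw [dbl_apply (by simp; omega) (by simp; omega) (by simp; omega) (by simp; omega)]
        split_ifs <;> simp_all [Fin.ext_iff] <;> omega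
      exact ⟨fun x => by have := h2 x; omega, fun x y => by rw [h2, h2]⟩
    · have hv : ∀ x : Fin n, ((dbl (⟨4 * i, by omega⟩ : Fin n) ⟨4 * i + 2, by omega⟩
          ⟨4 * i + 1, by omega⟩ ⟨4 * i + 3, hi⟩ x : Fin n) : ℕ) =
            if (x : ℕ) / 4 = i then 4 * i + ((x : ℕ) + 2) % 4 else (x : ℕ) := by
        intro x
        rw [dbl_apply (by simp) (by simp) (by simp) (by simp)]
        simp only [Fin.ext_iff]
        split_ifs <;> (try simp only [Fin.val_mk]) <;> omega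
      refine ⟨fun x => ?_, fun x y => ?_⟩
      · rw [hv]; split_ifs <;> omega
      · rw [hv, hv]; split_ifs <;> omega
  exact fun g => ⟨2, Subtype.ext (pow_four_eq_one (hle g.2).1 (hle g.2).2)⟩

theorem dblGens_le_alt (n : ℕ) : Subgroup.closure (dblGens n) ≤ alternatingGroup (Fin n) := by
  refine (Subgroup.closure_le _).2 fun t ht => ?_
  rcases ht with ⟨k, l, hk, hl, hkl, rfl⟩ | ⟨i, hi, rfl⟩ <;>
    simp [dbl, mem_alternatingGroup, Fin.ext_iff, SetLike.mem_coe]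

variable {H : Subgroup (Perm (Fin n))} (hD : dblGens n ⊆ (H : Set (Perm (Fin n))))
include hD

theorem quad_std {i : ℕ} (hi : 4 * i + 3 < n) :
    Quad H (Finset.univ.filter fun x : Fin n => (x : ℕ) / 4 = i) := by
  let e : Fin 4 → Fin n := fun j => ⟨4 * i + (j : ℕ), by omega⟩
  have he : Function.Injective e := fun a b h => Fin.ext (by simp [e] at h; omega)
  have hset : (Finset.univ.filter fun x : Fin n => (x : ℕ) / 4 = i) = Finset.univ.image e := by
    ext x
    simp only [Finset.mem_filter, Finset.mem_univ, true_and, Finset.mem_image]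
    exact ⟨fun h => ⟨⟨(x : ℕ) % 4, by omega⟩, Fin.ext (by simp [e]; omega)⟩,
      fun ⟨j, hj⟩ => by rw [← hj]; simp [e]; omega⟩
  rw [hset]
  refine ⟨by rw [Finset.card_image_of_injective _ he]; simp, ?_⟩
  intro a b c d ha hb hc hd hab hac had hbc hbd hcd
  simp only [Finset.mem_image, Finset.mem_univ, true_and] at ha hb hc hd
  obtain ⟨a, rfl⟩ := ha
  obtain ⟨b, rfl⟩ := hb
  obtain ⟨c, rfl⟩ := hc
  obtain ⟨d, rfl⟩ := hd
  have key : ∀ a b c d : Fin 4, a ≠ b → a ≠ c → a ≠ d → b ≠ c → b ≠ d → c ≠ d →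
      (∀ z, dbl a b c d z = dbl 0 1 2 3 z) ∨ (∀ z, dbl a b c d z = dbl 0 2 1 3 z) ∨
        ∀ z, dbl a b c d z = (dbl (0 : Fin 4) 1 2 3 * dbl 0 2 1 3 : Perm (Fin 4)) z := by
    unfold dbl; decide
  have hin : ∀ (p q r s z : Fin 4), dbl (e p) (e q) (e r) (e s) (e z) = e (dbl p q r s z) := by
    intro p q r s z
    simp only [dbl, Perm.mul_apply, he.swap_apply]
  have hout : ∀ (p q r s : Fin 4) (z : Fin n), (∀ w, e w ≠ z) →
      dbl (e p) (e q) (e r) (e s) z = z := by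
    intro p q r s z hz
    rw [dbl, Perm.mul_apply, swap_apply_of_ne_of_ne (hz r).symm (hz s).symm,
      swap_apply_of_ne_of_ne (hz p).symm (hz q).symm]
  have g1 : dbl (e 0) (e 1) (e 2) (e 3) ∈ H :=
    hD (Or.inl ⟨2 * i, 2 * i + 1, by omega, by omega, by omega,
      by congr 1 <;> apply Fin.ext <;> simp [e] <;> omega⟩)
  have g2 : dbl (e 0) (e 2) (e 1) (e 3) ∈ H :=
    hD (Or.inr ⟨i, hi, by congr 1 <;> apply Fin.ext <;> simp [e]⟩)
  have hmk : ∀ g : Perm (Fin n), g ∈ H → (∀ z, g (e z) = e (dbl a b c d z)) →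
      (∀ z, (∀ w, e w ≠ z) → g z = z) → dbl (e a) (e b) (e c) (e d) ∈ H := by
    intro g hg h1 h2
    suffices dbl (e a) (e b) (e c) (e d) = g by rw [this]; exact hg
    ext z
    by_cases hz : ∃ w, e w = z
    · obtain ⟨w, rfl⟩ := hz
      rw [hin, h1]
    · rw [hout _ _ _ _ z (fun w h => hz ⟨w, h⟩), h2 z fun w h => hz ⟨w, h⟩]
  rcases key a b c d (fun h => hab (by rw [h])) (fun h => hac (by rw [h])) (fun h => had (by rw [h]))
    (fun h => hbc (by rw [h])) (fun h => hbd (by rw [h])) (fun h => hcd (by rw [h])) with h | h | h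
  · exact hmk _ g1 (fun z => by rw [hin, h]) (fun z hz => hout _ _ _ _ z hz)
  · exact hmk _ g2 (fun z => by rw [hin, h]) (fun z hz => hout _ _ _ _ z hz)
  · refine hmk _ (H.mul_mem g1 g2) (fun z => ?_) fun z hz => ?_
    · rw [Perm.mul_apply, hin, hin, h, Perm.mul_apply]
    · rw [Perm.mul_apply, hout _ _ _ _ z hz, hout _ _ _ _ z hz]

variable (hno : ∀ c ∈ H, ¬ c.IsThreeCycle)
include hno

/-- The dichotomy for a set of four points: union of pairs, or one point in each of four pairs. -/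
theorem quad_pairs (hn : 8 ≤ n) {R : Finset (Fin n)} (hR : Quad H R) :
    (∀ x ∈ R, (x : ℕ) < 2 * (n / 2)) ∧
    ((∀ x y : Fin n, (x : ℕ) / 2 = (y : ℕ) / 2 → x ∈ R → y ∈ R) ∨
      n / 2 = 4 ∧ ∀ x y : Fin n, x ≠ y → (x : ℕ) < 8 → (x : ℕ) / 2 = (y : ℕ) / 2 → (x ∈ R ↔ y ∉ R)) := by
  classical
  let P : ∀ k, 2 * k + 1 < n → Prop := fun k hk =>
    ¬ ((⟨2 * k, by omega⟩ : Fin n) ∈ R ↔ (⟨2 * k + 1, hk⟩ : Fin n) ∈ R)
  have hsame : ∀ k l (hk : 2 * k + 1 < n) (hl : 2 * l + 1 < n), P k hk → P l hl := by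
    intro k l hk hl hP
    rcases eq_or_ne k l with rfl | hkl
    · exact hP
    simp only [P] at hP ⊢
    by_cases ha : (⟨2 * k, by omega⟩ : Fin n) ∈ R
    · exact hR.split hno (by simp; omega) (by simp; omega) (by simp; omega) (by simp; omega)
        (by simp) (hD (Or.inl ⟨k, l, hk, hl, hkl, rfl⟩)) ha fun h => hP (iff_of_true ha h)
    · have hb : (⟨2 * k + 1, hk⟩ : Fin n) ∈ R := by_contra fun h => hP (iff_of_false ha h)
      refine hR.split hno (a := ⟨2 * k + 1, hk⟩) (b := ⟨2 * k, by omega⟩) (by simp; omega)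
        (by simp; omega) (by simp; omega) (by simp; omega) (by simp) ?_ hb ha
      rw [dbl, swap_comm]
      exact hD (Or.inl ⟨k, l, hk, hl, hkl, rfl⟩)
  have hpair : ∀ x y : Fin n, x ≠ y → (x : ℕ) / 2 = (y : ℕ) / 2 →
      ∃ hk : 2 * ((x : ℕ) / 2) + 1 < n,
        (x = ⟨2 * ((x : ℕ) / 2), by omega⟩ ∧ y = ⟨2 * ((x : ℕ) / 2) + 1, hk⟩) ∨
        (y = ⟨2 * ((x : ℕ) / 2), by omega⟩ ∧ x = ⟨2 * ((x : ℕ) / 2) + 1, hk⟩) := by
    intro x y hxy h
    rw [Ne, Fin.ext_iff] at hxy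
    simp only [Fin.ext_iff]
    exact ⟨by omega, by omega⟩
  by_cases hP : P 0 (by omega)
  · have hall : ∀ x y : Fin n, x ≠ y → (x : ℕ) / 2 = (y : ℕ) / 2 → (x ∈ R ↔ y ∉ R) := by
      intro x y hxy h
      obtain ⟨hk, ⟨e1, e2⟩ | ⟨e1, e2⟩⟩ := hpair x y hxy h <;>
      · have h3 := hsame _ _ _ hk hP
        simp only [P] at h3
        rw [← e1, ← e2] at h3
        tauto
    have hsub : (Finset.range (n / 2)) ⊆ R.image fun x : Fin n => (x : ℕ) / 2 := by
      intro k hk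
      rw [Finset.mem_range] at hk
      rw [Finset.mem_image]
      have := hall ⟨2 * k, by omega⟩ ⟨2 * k + 1, by omega⟩ (by simp) (by simp; omega)
      by_cases h : (⟨2 * k, by omega⟩ : Fin n) ∈ R
      · exact ⟨_, h, by simp⟩
      · exact ⟨_, not_not.1 (mt this.2 h), by simp; omega⟩
    have h4 := Finset.card_le_card hsub
    have h4' := (Finset.card_image_le (s := R) (f := fun x : Fin n => (x : ℕ) / 2))
    rw [Finset.card_range] at h4
    rw [hR.1] at h4'
    refine ⟨fun x hx => ?_, Or.inr ⟨by omega, fun x y hxy _ h => hall x y hxy h⟩⟩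
    have heq := Finset.eq_of_subset_of_card_le hsub (by rw [Finset.card_range]; omega)
    have := Finset.mem_image_of_mem (fun x : Fin n => (x : ℕ) / 2) hx
    rw [← heq, Finset.mem_range] at this
    omega
  · have hall : ∀ x y : Fin n, (x : ℕ) / 2 = (y : ℕ) / 2 → x ∈ R → y ∈ R := by
      intro x y h hx
      rcases eq_or_ne x y with rfl | hxy
      · exact hx
      obtain ⟨hk, ⟨e1, e2⟩ | ⟨e1, e2⟩⟩ := hpair x y hxy h <;>
      · have h3 : ¬ P _ hk := fun h3 => hP (hsame _ _ hk _ h3)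
        simp only [P] at h3
        rw [← e1, ← e2] at h3
        tauto
    refine ⟨fun x hx => ?_, Or.inl hall⟩
    by_contra hx2
    -- otherwise at least five points
    obtain ⟨y, hy, hyx⟩ := Finset.exists_mem_ne (by rw [hR.1]; norm_num) x (s := R)
    rw [Ne, Fin.ext_iff] at hyx
    let y' : Fin n := ⟨if (y : ℕ) % 2 = 0 then (y : ℕ) + 1 else (y : ℕ) - 1, by
      split_ifs <;> omega⟩
    have hy' : y' ∈ R := hall y y' (by simp [y']; split_ifs <;> omega) hy
    obtain ⟨w, hw, hw'⟩ : ∃ w ∈ R, w ∉ ({x, y, y'} : Finset (Fin n)) := by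
      by_contra! hcon
      have := (Finset.card_le_card hcon).trans Finset.card_le_three
      rw [hR.1] at this
      omega
    simp only [Finset.mem_insert, Finset.mem_singleton, not_or, Fin.ext_iff] at hw'
    obtain ⟨hwx, hwy, hwy'⟩ := hw'
    let w' : Fin n := ⟨if (w : ℕ) % 2 = 0 then (w : ℕ) + 1 else (w : ℕ) - 1, by
      split_ifs <;> omega⟩
    have hww : w' ∈ R := hall w w' (by simp [w']; split_ifs <;> omega) hw
    have hy'v : (y' : ℕ) / 2 = (y : ℕ) / 2 ∧ (y' : ℕ) ≠ y := by simp only [y']; split_ifs <;> omega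
    have hw'v : (w' : ℕ) / 2 = (w : ℕ) / 2 ∧ (w' : ℕ) ≠ w := by simp only [w']; split_ifs <;> omega
    have hle : ({x, y, y', w, w'} : Finset (Fin n)) ⊆ R := by
      simp [Finset.insert_subset_iff, hx, hy, hy', hw, hww]
    have := Finset.card_le_card hle
    rw [hR.1, Finset.card_insert_of_notMem, Finset.card_insert_of_notMem,
      Finset.card_insert_of_notMem, Finset.card_pair] at this
    · omega
    all_goals
      simp only [Finset.mem_insert, Finset.mem_singleton, ne_eq, Fin.ext_iff]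
      omega

end Cfsg.Agent.Lib.PermThree
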