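import Mathlib
import Cfsg.Agent.Lib.PermThree.SylowTwo

/-!
Overgroups of a Sylow two-subgroup of the alternating group with quasisimple generalized Fitting
subgroup contain a three-cycle.
-/

set_option autoImplicit false

namespace Cfsg.Agent.Lib.PermThree

open Equiv Equiv.Perm Cfsg
open Cfsg.Agent.Lib.AltAut
open scoped commutatorElement

/-- A perfect group acting through a set of at most four elements acts trivially. -/
theorem hom_eq_one_of_perfect {G : Type*} [Group G] [Group.IsPerfect G] {β : Type*} [Fintype β]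
    [DecidableEq β] (h : Fintype.card β ≤ 4) (f : G →* Perm β) (g : G) : f g = 1 := by
  haveI := isSolvable_perm_of_card_le h
  haveI : Group.IsSolvable ↥f.range :=
    Group.isSolvable_of_isSolvable_injective (f := f.range.subtype) f.range.subtype_injective
  haveI : Group.IsPerfect ↥f.range := Group.IsPerfect.ofSurjective f.rangeRestrict_surjective
  by_contra hne
  haveI : Nontrivial ↥f.range :=
    ⟨⟨⟨f g, g, rfl⟩, 1, fun e => hne (congrArg Subtype.val e)⟩⟩
  exact Group.IsPerfect.not_isSolvable ↥f.range inferInstance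

variable {α : Type*} [Fintype α] [DecidableEq α] {H : Subgroup (Perm α)}

/-- A group of permutations stabilising each member of a family of four-point sets and fixing the
rest is solvable. -/
theorem isSolvable_of_fix_quads {G : Type*} [Group G] (f : G →* Perm α) (hf : Function.Injective f)
    (F : Finset (Finset α)) (h4 : ∀ R ∈ F, R.card ≤ 4)
    (hfix : ∀ g x, (∀ R ∈ F, x ∉ R) → f g x = x) (hinv : ∀ g, ∀ R ∈ F, R.image (f g) = R) :
    Group.IsSolvable G := by
  have hmem : ∀ g, ∀ R ∈ F, ∀ x, f g x ∈ R ↔ x ∈ R := fun g R hR x => by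
    conv_lhs => rw [← hinv g R hR]
    simp [Finset.mem_image]
  have hker : ∀ (g : G), (∀ R ∈ F, ∀ x ∈ R, f g x = x) → g = 1 := fun g h => hf (by
    rw [map_one]
    ext x
    by_cases hx : ∃ R ∈ F, x ∈ R
    · obtain ⟨R, hR, hxR⟩ := hx
      rw [h R hR x hxR, Perm.one_apply]
    · rw [hfix g x fun R hR hxR => hx ⟨R, hR, hxR⟩, Perm.one_apply])
  let φ : ∀ R : {R // R ∈ F}, G →* Perm {x // x ∈ R.1} := fun R =>
    { toFun := fun g => (f g).subtypePerm (hmem g R.1 R.2)
      map_one' := by ext x; simp
      map_mul' := fun g h => by ext x; simp; rfl }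
  have hsol : ∀ R : {R // R ∈ F}, ∃ m, derivedSeries (Perm {x // x ∈ R.1}) m = ⊥ := fun R =>
    (isSolvable_perm_of_card_le (β := {x // x ∈ R.1}) (by rw [Fintype.card_coe]; exact h4 _ R.2)).solvable
  choose m hm using hsol
  refine ⟨⟨Finset.univ.sum m, eq_bot_iff.2 fun g hg => hker g fun R hR x hx => ?_⟩⟩
  have h1 : φ ⟨R, hR⟩ g ∈ derivedSeries (Perm {x // x ∈ R}) (m ⟨R, hR⟩) :=
    map_derivedSeries_le_derivedSeries (φ ⟨R, hR⟩) _
      (Subgroup.mem_map_of_mem _ (derivedSeries_antitone G
        (Finset.single_le_sum (fun _ _ => Nat.zero_le _) (Finset.mem_univ _)) hg))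
  rw [hm ⟨R, hR⟩, Subgroup.mem_bot] at h1
  exact congrArg Subtype.val (Perm.ext_iff.mp h1 ⟨x, hx⟩)

variable {n : ℕ} {H : Subgroup (Perm (Fin n))}

theorem exists_three_cycle (hn : 8 ≤ n) (hD : dblGens n ⊆ (H : Set (Perm (Fin n))))
    (hF : IsQuasisimple ↥(generalizedFittingSubgroup ↥H)) : ∃ c ∈ H, c.IsThreeCycle := by
  classical
  by_contra! hno
  haveI hn0 : (generalizedFittingSubgroup ↥H).Normal := Components.generalizedFittingSubgroup_normal
  set F : Finset (Finset (Fin n)) := Finset.univ.filter (Quad H) with hFdef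
  have hFmem : ∀ R, R ∈ F ↔ Quad H R := fun R => by simp [hFdef]
  set U : Finset (Fin n) := F.biUnion id with hUdef
  have hUmem : ∀ x, x ∈ U ↔ ∃ R, Quad H R ∧ x ∈ R := fun x => by
    simp [hUdef, hFmem]
  have himg : ∀ g ∈ H, ∀ R, Quad H R → Quad H (R.image g) := fun g hg R hR => hR.image hg
  have hUimg : ∀ g ∈ H, U.image g = U := fun g hg =>
    Finset.eq_of_subset_of_card_le (fun x hx => by
      obtain ⟨y, hy, rfl⟩ := Finset.mem_image.1 hx
      obtain ⟨R, hR, hyR⟩ := (hUmem y).1 hy
      exact (hUmem _).2 ⟨_, himg g hg R hR, Finset.mem_image_of_mem _ hyR⟩)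
      (Finset.card_image_of_injective _ g.injective).ge
  -- the stabiliser of all four-sets up to complementation
  let K : Subgroup ↥H :=
    { carrier := {g | (∀ x ∉ U, (g : Perm (Fin n)) x = x) ∧
        ∀ R, Quad H R → R.image (g : Perm (Fin n)) = R ∨ R.image (g : Perm (Fin n)) = U \ R}
      one_mem' := ⟨fun x _ => rfl, fun R _ => Or.inl (by simp)⟩
      mul_mem' := fun {a b} ha hb => by
        refine ⟨fun x hx => by simp [hb.1 x hx, ha.1 x hx], fun R hR => ?_⟩
        simp only [Subgroup.coe_mul, Perm.coe_mul, ← Finset.image_image]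
        have hRU : R ⊆ U := fun x hx => (hUmem x).2 ⟨R, hR, hx⟩
        rcases hb.2 R hR with h | h <;> rw [h]
        · exact ha.2 R hR
        · rw [Finset.image_sdiff _ _ (a : Perm (Fin n)).injective, hUimg _ a.2]
          rcases ha.2 R hR with h' | h' <;> rw [h']
          · exact Or.inr rfl
          · exact Or.inl (Finset.sdiff_sdiff_eq_self hRU)
      inv_mem' := fun {a} ha => by
        refine ⟨fun x hx => ?_, fun R hR => ?_⟩
        · simp only [Subgroup.coe_inv, Perm.inv_def, Equiv.symm_apply_eq]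
          exact (ha.1 x hx).symm
        · have hRU : R ⊆ U := fun x hx => (hUmem x).2 ⟨R, hR, hx⟩
          have hcancel : ∀ S : Finset (Fin n),
              (S.image (a : Perm (Fin n))).image (↑(a⁻¹) : Perm (Fin n)) = S := fun S => by
            simp [Finset.image_image, Function.comp_def]
          rcases ha.2 R hR with h | h
          · exact Or.inl (by conv_lhs => rw [← h]; exact (hcancel R))
          · right
            calc R.image (↑(a⁻¹) : Perm (Fin n))
                = (U \ (R.image (a : Perm (Fin n)))).image (↑(a⁻¹) : Perm (Fin n)) := by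
                  rw [h, Finset.sdiff_sdiff_eq_self hRU]
              _ = U \ R := by
                  rw [Finset.image_sdiff _ _ (↑(a⁻¹) : Perm (Fin n)).injective,
                    hUimg _ (a⁻¹).2, hcancel] }
  haveI hKn : K.Normal := by
    refine ⟨fun m hm g => ⟨fun x hx => ?_, fun R hR => ?_⟩⟩
    · have hx' : (g : Perm (Fin n))⁻¹ x ∉ U := fun h => hx (by
        rw [← hUimg _ g.2]
        exact Finset.mem_image.2 ⟨_, h, by simp⟩)
      have h := hm.1 _ hx'
      simp only [Perm.inv_def] at h
      simp [h]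
    · simp only [Subgroup.coe_mul, Subgroup.coe_inv, Perm.coe_mul, ← Finset.image_image]
      have hR' := himg _ (H.inv_mem g.2) R hR
      have hcancel : (R.image ((g : Perm (Fin n))⁻¹ : Perm (Fin n))).image (g : Perm (Fin n)) = R := by
        simp [Finset.image_image, Function.comp_def]
      rcases hm.2 _ hR' with h | h <;> rw [h]
      · exact Or.inl hcancel
      · rw [Finset.image_sdiff _ _ (g : Perm (Fin n)).injective, hUimg _ g.2, hcancel]
        exact Or.inr rfl
  -- it is solvable
  haveI hKs : Group.IsSolvable ↥K := by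
    have hcomm : ∀ (a b : ↥K) (S : Finset (Fin n)), Quad H S →
        S.image (((a * b : ↥K) : ↥H) : Perm (Fin n)) = S.image (((b * a : ↥K) : ↥H) : Perm (Fin n)) := by
      intro a b S hS
      have hSU : S ⊆ U := fun x hx => (hUmem x).2 ⟨S, hS, hx⟩
      have hflip : ∀ c : ↥K, S.image ((c : ↥H) : Perm (Fin n)) = U \ S →
          (U \ S).image ((c : ↥H) : Perm (Fin n)) = S := fun c h => by
        rw [Finset.image_sdiff _ _ ((c : ↥H) : Perm (Fin n)).injective, hUimg _ (c : ↥H).2, h,
          Finset.sdiff_sdiff_eq_self hSU]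
      simp only [Subgroup.coe_mul, Perm.coe_mul, ← Finset.image_image]
      rcases a.2.2 S hS with h1 | h1 <;> rcases b.2.2 S hS with h2 | h2
      · rw [h2, h1, h2]
      · rw [h1, h2, Finset.image_sdiff _ _ ((a : ↥H) : Perm (Fin n)).injective, hUimg _ (a : ↥H).2, h1]
      · rw [h2, h1, Finset.image_sdiff _ _ ((b : ↥H) : Perm (Fin n)).injective, hUimg _ (b : ↥H).2, h2]
      · rw [h2, hflip a h1, h1, hflip b h2]
    let C : Subgroup ↥K :=
      { carrier := {g | ∀ R, Quad H R → R.image ((g : ↥H) : Perm (Fin n)) = R}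
        one_mem' := fun R _ => by simp
        mul_mem' := fun {a b} ha hb R hR => by
          simp only [Subgroup.coe_mul, Perm.coe_mul, ← Finset.image_image]
          rw [hb R hR, ha R hR]
        inv_mem' := fun {a} ha R hR => by
          conv_lhs => rw [← ha R hR]
          simp [Finset.image_image, Function.comp_def] }
    have hle : commutator ↥K ≤ C := by
      rw [commutator_eq_closure, Subgroup.closure_le]
      rintro _ ⟨a, b, rfl⟩ R hR
      have h := hcomm a b _ (himg _ (((b * a : ↥K)⁻¹ : ↥K) : ↥H).2 R hR)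
      rw [Finset.image_image, Finset.image_image, ← Perm.coe_mul, ← Perm.coe_mul,
        ← Subgroup.coe_mul, ← Subgroup.coe_mul, ← Subgroup.coe_mul, ← Subgroup.coe_mul,
        mul_inv_cancel] at h
      rw [commutatorElement_def, show a * b * a⁻¹ * b⁻¹ = a * b * (b * a)⁻¹ by group]
      exact h.trans (by simp)
    haveI : Group.IsSolvable ↥(commutator ↥K) := isSolvable_of_fix_quads
      ((H.subtype.comp K.subtype).comp (commutator ↥K).subtype)
      ((H.subtype_injective.comp K.subtype_injective).comp (commutator ↥K).subtype_injective) F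
      (fun R hR => ((hFmem R).1 hR).1.le)
      (fun g x hx => (g : ↥K).2.1 x fun h => by
        obtain ⟨R, hR, hxR⟩ := (hUmem x).1 h
        exact hx R ((hFmem R).2 hR) hxR)
      (fun g R hR => hle g.2 R ((hFmem R).1 hR))
    refine (Group.isSolvable_iff_subgroup_quotient (commutator ↥K)).2 ⟨inferInstance, ?_⟩
    exact Group.isSolvable_of_comm fun x y => mul_comm (G := Abelianization ↥K) x y
  -- the element swapping within the first four pairs
  let p : ℕ → ℕ := fun z => if z % 2 = 0 then z + 1 else z - 1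
  let t : ∀ k, 2 * k + 1 < 8 → Fin n × Fin n := fun k hk =>
    (⟨2 * k, by omega⟩, ⟨2 * k + 1, by omega⟩)
  let a : Perm (Fin n) := dbl (t 0 (by omega)).1 (t 0 (by omega)).2 (t 1 (by omega)).1 (t 1 (by omega)).2 *
    dbl (t 2 (by omega)).1 (t 2 (by omega)).2 (t 3 (by omega)).1 (t 3 (by omega)).2
  have haH : a ∈ H := H.mul_mem (hD (Or.inl ⟨0, 1, by omega, by omega, by omega, rfl⟩))
    (hD (Or.inl ⟨2, 3, by omega, by omega, by omega, rfl⟩))
  have haval : ∀ z : Fin n, (a z : ℕ) = if (z : ℕ) < 8 then p z else z := by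
    intro z
    simp only [a, t, Perm.mul_apply]
    rw [dbl_apply (by simp) (by simp) (by simp) (by simp), dbl_apply (by simp) (by simp) (by simp) (by simp)]
    simp only [Fin.ext_iff, apply_ite (Fin.val (n := n))]
    simp only [p, Fin.val_mk]
    split_ifs <;> first | contradiction | omega
  have hainv : ∀ z, a (a z) = z := fun z => Fin.ext (by
    rw [haval, haval]; simp only [p]; split_ifs <;> omega)
  have hU8 : ∀ x : Fin n, (x : ℕ) < 8 → x ∈ U := fun x hx => (hUmem x).2
    ⟨_, quad_std hD (i := (x : ℕ) / 4) (by omega), by simp⟩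
  have haK : (⟨a, haH⟩ : ↥H) ∈ K := by
    refine ⟨fun x hx => Fin.ext ?_, fun R hR => ?_⟩
    · show (a x : ℕ) = _
      rw [haval, if_neg fun h => hx (hU8 x h)]
    obtain ⟨hlt, hcase | ⟨h4, hcase⟩⟩ := quad_pairs hD hno hn hR
    · refine Or.inl (Finset.ext fun z => ?_)
      rw [mem_image_of_invol hainv]
      have hz : (a z : ℕ) / 2 = (z : ℕ) / 2 := by
        rw [haval]; simp only [p]; split_ifs <;> omega
      exact ⟨hcase _ _ hz, hcase _ _ hz.symm⟩
    · refine Or.inr (Finset.ext fun z => ?_)
      rw [mem_image_of_invol hainv, Finset.mem_sdiff]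
      by_cases hz8 : (z : ℕ) < 8
      · have hz : (a z : ℕ) / 2 = (z : ℕ) / 2 ∧ (a z : ℕ) ≠ z := by
          rw [haval, if_pos hz8]; simp only [p]; split_ifs <;> omega
        have := hcase z (a z) (fun e => hz.2 (by rw [← e])) hz8 hz.1.symm
        exact ⟨fun h => ⟨hU8 z hz8, fun hzR => this.1 hzR h⟩,
          fun h => by_contra fun hh => h.2 (this.2 hh)⟩
      · refine ⟨fun h => ?_, fun h => absurd ((hUmem z).1 h.1) ?_⟩
        · have := hlt _ h
          rw [haval, if_neg hz8] at this
          omega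
        · rintro ⟨S, hS, hzS⟩
          have := (quad_pairs hD hno hn hS).1 z hzS
          omega
  -- it is central in the generalized Fitting subgroup
  have hcomp : IsComponent (generalizedFittingSubgroup ↥H) := ⟨hn0.isSubnormal, hF⟩
  have hKC : K ≤ Subgroup.centralizer (generalizedFittingSubgroup ↥H : Set ↥H) := by
    rw [← Subgroup.commutator_eq_bot_iff_le_centralizer, Subgroup.commutator_comm]
    exact Components.isComponent_commutator_solvable hcomp hKs (by simp [Subgroup.normalizer_eq_top])
  set E : Subgroup (Perm (Fin n)) := (generalizedFittingSubgroup ↥H).map H.subtype with hE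
  have hEp : ⁅E, E⁆ = E := by
    rw [hE, ← Subgroup.map_commutator, Components.quasisimple_commutator_self hF]
  haveI : Group.IsPerfect ↥E := Subgroup.isPerfect_iff.mpr hEp
  have haE : a ∈ E :=
    ⟨_, Components.centralizer_generalizedFittingSubgroup_le (hKC haK), rfl⟩
  have hEcom : ∀ g ∈ E, ∀ z, g (a z) = a (g z) := by
    rintro _ ⟨g, hg, rfl⟩ z
    exact Perm.ext_iff.mp (congrArg Subtype.val (Subgroup.mem_centralizer_iff.1 (hKC haK) g hg)) z
  -- it acts on the four pairs
  have hmov : ∀ z : Fin n, a z ≠ z ↔ (z : ℕ) < 8 := fun z => by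
    rw [ne_eq, Fin.ext_iff, haval]; simp only [p]; split_ifs <;> omega
  have hsupp : ∀ g ∈ E, ∀ z : Fin n, (z : ℕ) < 8 → (g z : ℕ) < 8 := fun g hg z hz => by
    rw [← hmov] at hz ⊢
    rw [← hEcom g hg z]
    exact g.injective.ne hz
  have hdef : ∀ g ∈ E, ∀ z : Fin n, (z : ℕ) < 8 → ∀ w : Fin n, (w : ℕ) / 2 = (z : ℕ) / 2 →
      (g w : ℕ) / 2 = (g z : ℕ) / 2 := by
    intro g hg z hz w hw
    rcases eq_or_ne w z with rfl | hne
    · rfl
    have hwa : w = a z := Fin.ext (by
      rw [haval, if_pos hz]; simp only [p]; rw [ne_eq, Fin.ext_iff] at hne; split_ifs <;> omega)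
    have h8 := hsupp g hg z hz
    rw [hwa, hEcom g hg, haval, if_pos h8]
    simp only [p]; split_ifs <;> omega
  let q : Fin 4 → Fin n := fun k => ⟨2 * (k : ℕ), by omega⟩
  let act : ↥E → Fin 4 → Fin 4 := fun g k =>
    ⟨((g : Perm (Fin n)) (q k) : ℕ) / 2, by
      have := hsupp g g.2 (q k) (by simp [q]; omega); omega⟩
  have hact : ∀ (g h : ↥E) (k : Fin 4), act (g * h) k = act g (act h k) := by
    intro g h k
    have h8 := hsupp h h.2 (q k) (by simp [q]; omega)
    refine Fin.ext (hdef g g.2 _ ?_ _ ?_)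
    · simp [act, q] at *; omega
    · simp [act, q]
  have hact1 : ∀ k, act 1 k = k := fun k => Fin.ext (by simp [act, q])
  let f : ↥E →* Perm (Fin 4) :=
    { toFun := fun g => ⟨act g, act g⁻¹, fun k => by rw [← hact, inv_mul_cancel, hact1],
        fun k => by rw [← hact, mul_inv_cancel, hact1]⟩
      map_one' := Perm.ext hact1
      map_mul' := fun g h => Perm.ext (hact g h) }
  have hpair : ∀ g ∈ E, ∀ z : Fin n, (z : ℕ) < 8 → g z = z ∨ g z = a z := by
    intro g hg z hz
    have h1 := congrArg Fin.val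
      (Perm.ext_iff.mp (hom_eq_one_of_perfect (by simp) f ⟨g, hg⟩) ⟨(z : ℕ) / 2, by omega⟩)
    change (g (q ⟨(z : ℕ) / 2, _⟩) : ℕ) / 2 = (z : ℕ) / 2 at h1
    have h2 := hdef g hg (q ⟨(z : ℕ) / 2, by omega⟩) (by simp [q]; omega) z (by simp [q])
    rw [h1] at h2
    simp only [Fin.ext_iff, haval, if_pos hz, p]
    split_ifs <;> first | contradiction | omega
  -- hence acts trivially
  let z0 : Fin n := ⟨0, by omega⟩
  have hle : ⁅E, E⁆ ≤ MulAction.stabilizer (Perm (Fin n)) z0 := by
    rw [Subgroup.commutator_le]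
    intro g hg h hh
    have hswap : ∀ z : Fin n, (z : ℕ) < 8 → g (h z) = h (g z) := by
      intro z hz
      rcases hpair h hh z hz with e | e <;> rcases hpair g hg z hz with e' | e' <;>
        simp only [e, e', hEcom g hg, hEcom h hh]
    rw [MulAction.mem_stabilizer_iff, Perm.smul_def, commutatorElement_def]
    simp only [Perm.mul_apply]
    have h8 : (g⁻¹ (h⁻¹ z0) : ℕ) < 8 :=
      hsupp _ (E.inv_mem hg) _ (hsupp _ (E.inv_mem hh) z0 (by simp [z0]))
    rw [hswap _ h8]
    simp
  rw [hEp] at hle
  exact (hmov z0).2 (by simp [z0]) (hle haE)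

end Cfsg.Agent.Lib.PermThree
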